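import Cfsg.Agent.H182.CentOrth
import Cfsg.Agent.H377.OddThree_m3
import Cfsg.Agent.H94.Sp.Base_m3
import Cfsg.Agent.SmallSimple.Parity
import Cfsg.Agent.LieClassical.QuadCount
import Cfsg.Agent.ClassicalGeometry.OmegaIndex
import Cfsg.Agent.OddHalf.NI3.Bad.PSUFour
import Cfsg.Agent.S0286
import Cfsg.Agent.S0287
import Cfsg.Agent.S0292
import Cfsg.Agent.S0293
import Cfsg.Agent.S0790
import Cfsg.Agent.FastGrp
import Cfsg.Agent.Prune
set_option linter.all false

section
prune_inst 0x7ffffdffbbfcf9dfffff7e7ffefdddfdffbbbfffa4dff9cb7fe863ff0bdf5b80cdc5f3ad8beb92fe1eb7c21410ec7b43fdffeeffea6bdc7ffffd5ff45ffbffdffdf7bd0851dc88be1fbe2ffee3f0778e7f3fffffffffffffffffffffffffffaeffbfffffffff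

-- part: H182/CentOdd
section
set_option linter.all false
open scoped Cfsg.Agent.FastGrp

/-!
# Odd components of `PΩ(2m+1, q)` are cyclic and isolated (helper182)
-/

set_option autoImplicit false
set_option linter.unusedSectionVars false
set_option linter.style.haveILetI false

namespace Cfsg.Agent.H182.Cent

open Module QuadraticMap
open Cfsg.Agent.LieClassical.OrthCore Cfsg.Agent.LieClassical.OrthForms
open Cfsg.Agent.H94.PG Cfsg.Agent.H564.NearTwo

section

variable {F : Type*} [Field F] [Finite F]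

/-- **The row data of `PΩ(2m+1, q)`.** -/
theorem rowData_odd (ho : Odd (Nat.card F)) {m : ℕ} (hm : 3 ≤ m) :
    RowData (sform_polar (oddForm m F)) (rho (⇑(oddForm m F))) := by
  have h2 : (2 : F) ≠ 0 := Cfsg.Agent.H377.OOdd.two_ne_zero_of_odd ho
  have hnd : Nondeg (oddForm m F) := nondeg_oddForm m F h2
  have hdim : finrank F (Unit ⊕ (Fin m ⊕ Fin m) → F) = 2 * m + 1 := by
    rw [Module.finrank_fintype_fun_eq_card]
    simp only [Fintype.card_sum, Fintype.card_unit, Fintype.card_fin]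
    omega
  have hcard : Fintype.card (Unit ⊕ (Fin m ⊕ Fin m)) = 2 * m + 1 := by
    rw [← Module.finrank_fintype_fun_eq_card F, hdim]
  have hsing : ∃ u : Unit ⊕ (Fin m ⊕ Fin m) → F, u ≠ 0 ∧ oddForm m F u = 0 := by
    obtain ⟨w, hw0, hw, -⟩ := Cfsg.Agent.LieClassical.OrthFinite.exists_sing_perp (Q := oddForm m F) (n := 0) ![] (by
      rw [hdim]; omega)
    exact ⟨w, hw0, hw⟩
  refine ⟨rho_injective _, rho_polar _, hnd, by rw [hdim]; omega, ?_, ?_, ?_⟩
  · intro z hz
    rw [Cfsg.Agent.LieClassical.OrthCenter.mem_center_omega_iff (Sign.nondegenerate_iff_nondeg.2 hnd) (by omega)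
      hsing] at hz
    rcases hz with h | h
    · left
      apply LinearMap.ext
      intro v
      rw [rho_apply, h, Matrix.one_mulVec]
      rfl
    · right
      apply LinearMap.ext
      intro v
      rw [rho_apply, h, Matrix.neg_mulVec, Matrix.one_mulVec]
      rfl
  · intro r hr hr2 h
    change Adj (Cfsg.POmega F _) r 2
    rw [coe_oddForm]
    refine Cfsg.Agent.H377.OOdd.adj_two_of_char ho hm hr hr2 ?_
    haveI : CharP F r := by
      obtain ⟨c, hc⟩ := CharP.exists F
      have hcp : c.Prime := CharP.char_is_prime F c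
      have h1 : c ∣ r := (CharP.cast_eq_zero_iff F c r).1 h
      rwa [(Nat.prime_dvd_prime_iff_eq hcp hr).1 h1] at hc
    classical
    letI := Fintype.ofFinite F
    haveI : Fact r.Prime := ⟨hr⟩
    obtain ⟨a, -, ha⟩ := FiniteField.card F r
    rw [Nat.card_eq_fintype_card, ha]
    exact dvd_pow_self r a.ne_zero
  · intro g r hr hr2 hrF hgr hg1 hna Z hZ h0 hndZ hfix
    have hna' : ¬ Adj (Cfsg.POmega F (Cfsg.quadFormOdd m F)) r 2 := by
      rw [← coe_oddForm]
      exact hna
    have hxr : (rho (⇑(oddForm m F)) g) ^ r = 1 := by rw [← map_pow, hgr, map_one]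
    obtain ⟨k, hk⟩ := even_block _ (rho_polar _ g) (hr.odd_of_ne_two hr2) hxr hZ hndZ hfix
    have hdvd := dvd_pow_sub_one hr hxr hZ hfix
    have hk2 : finrank F Z = 2 * k := by omega
    rw [hk2] at hdvd
    have hk0 : k ≠ 0 := by
      rintro rfl
      apply h0
      exact Submodule.finrank_eq_zero.1 (by omega)
    have hkm : m ≤ k := by
      by_contra hlt
      exact hna' (Cfsg.Agent.H377.OOdd.adj_two_of_dvd ho hm (by omega) (by omega) hr hr2 hdvd)
    rw [hdim]
    omega

end

theorem hasCyc_of_isPOmegaOdd {S : Type*} [Group S] (h : Cfsg.IsPOmegaOdd S) {r : ℕ} (hr : r.Prime)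
    (hd : r ∣ Nat.card S) (hn : ¬ Near S r) : HasCyc S r := by
  obtain ⟨F, _, _, m, hm, ho, ⟨e⟩⟩ := h
  rw [Nat.card_congr e.toEquiv] at hd
  rw [near_congr e] at hn
  rw [← Nat.card_eq_fintype_card] at ho
  have h1 : HasCyc (Cfsg.POmega F ⇑(oddForm m F)) r :=
    (rowData_odd ho hm).hasCyc hr (by rw [coe_oddForm]; exact hd) (by rw [coe_oddForm]; exact hn)
  rw [coe_oddForm] at h1
  exact h1.congr e.symm

end Cfsg.Agent.H182.Cent
end

-- part: H134/OmegaThree
section
set_option linter.all false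
open scoped Cfsg.Agent.FastGrp

-- part: H134/CentPow
section
/-!
# Isometries commuting with an isometry of odd prime order: their order (helper134)

`x` of prime order `p`, `q = |F|`, `p ∣ q ^ d - 1`: an isometry `h` commuting with `x` satisfies
`h ^ (q ^ d - 1) = 1` on the moved space `Y` of `x` if `x` has only large blocks (H182.Cent).
-/

set_option autoImplicit false
set_option linter.unusedSectionVars false
set_option linter.style.haveILetI false

namespace Cfsg.Agent.H134.CentPow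

open Module Polynomial Cfsg.Agent.H182.Cent

section

variable {F V : Type*} [Field F] [AddCommGroup V] [Module F V] {x h : Module.End F V}

theorem commute_aeval (hh : Commute h x) (f : F[X]) : Commute h (aeval x f) := by
  induction f using Polynomial.induction_on with
  | C a =>
    rw [aeval_C]
    exact (Algebra.commutes a h).symm
  | add p q hp hq =>
    rw [map_add]
    exact hp.add_right hq
  | monomial n a _ =>
    rw [map_mul, aeval_C, map_pow, aeval_X]
    exact Commute.mul_right (Algebra.commutes a h).symm (hh.pow_right _)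

/-- the cyclic submodule -/
def cyc (x : Module.End F V) (u : V) : Submodule F V where
  carrier := {v | ∃ f : F[X], v = aeval x f u}
  zero_mem' := ⟨0, by rw [map_zero]; rfl⟩
  add_mem' := by
    rintro a b ⟨f, rfl⟩ ⟨g, rfl⟩
    exact ⟨f + g, by rw [map_add]; rfl⟩
  smul_mem' := by
    rintro c a ⟨f, rfl⟩
    exact ⟨c • f, by rw [map_smul]; rfl⟩

theorem inv_cyc (u : V) : _root_.Cfsg.Agent.H182.Cent.Inv x (cyc x u) := by
  rintro _ ⟨f, rfl⟩
  exact ⟨X * f, by rw [map_mul, aeval_X]; rfl⟩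

theorem mem_cyc (u : V) : u ∈ cyc x u := ⟨1, by rw [map_one]; rfl⟩

theorem cyc_le {P : Submodule F V} (hP : _root_.Cfsg.Agent.H182.Cent.Inv x P) {u : V} (hu : u ∈ P) : cyc x u ≤ P := by
  rintro _ ⟨f, rfl⟩
  induction f using Polynomial.induction_on with
  | C a =>
    rw [aeval_C, Module.algebraMap_end_apply]
    exact P.smul_mem _ hu
  | add p q hp hq =>
    rw [map_add]
    exact P.add_mem hp hq
  | monomial n a _ =>
    rw [map_mul, aeval_C, map_pow, aeval_X, Module.End.mul_apply, Module.algebraMap_end_apply]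
    exact P.smul_mem _ (hP.pow _ _ hu)

theorem pow_apply_of (hh : Commute h x) {u : V} {f : F[X]} (hf : h u = aeval x f u) (k : ℕ) :
    (h ^ k) u = (aeval x f ^ k) u := by
  induction k with
  | zero => rfl
  | succ k ih =>
    have h1 : Commute h (aeval x f ^ k) := (commute_aeval hh f).pow_right k
    have h2 : (h * (aeval x f ^ k)) u = ((aeval x f ^ k) * h) u := by rw [h1.eq]
    rw [pow_succ', Module.End.mul_apply, ih]
    rw [Module.End.mul_apply, Module.End.mul_apply] at h2
    rw [h2, hf, pow_succ, Module.End.mul_apply]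

theorem expand_pow_card [Finite F] (d : ℕ) (f : F[X]) : expand F (Nat.card F ^ d) f = f ^ (Nat.card F ^ d) := by
  classical
  letI := Fintype.ofFinite F
  induction d with
  | zero => rw [pow_zero, expand_one, pow_one]
  | succ d ih =>
    rw [pow_succ, expand_mul, Nat.card_eq_fintype_card, FiniteField.expand_card, map_pow,
      ← Nat.card_eq_fintype_card, ih, ← pow_mul]

/-- **The Frobenius trick.** -/
theorem pow_card_apply [Finite F] {d : ℕ} (hx : x ^ (Nat.card F ^ d) = x) {P : Submodule F V} (hP : _root_.Cfsg.Agent.H182.Cent.Min x P)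
    (hh : Commute h x) (hhP : ∀ u ∈ P, h u ∈ P) {u : V} (hu : u ∈ P) : (h ^ (Nat.card F ^ d)) u = h u := by
  by_cases hu0 : u = 0
  · rw [hu0, map_zero, map_zero]
  have h1 : cyc x u = P := by
    rcases hP.2.2 (cyc x u) (inv_cyc u) (cyc_le hP.1 hu) with h1 | h1
    · exfalso
      apply hu0
      have := mem_cyc (x := x) u
      rw [h1] at this
      exact (Submodule.mem_bot F).1 this
    · exact h1
  have h2 := hhP u hu
  rw [← h1] at h2
  obtain ⟨f, hf⟩ := h2
  rw [pow_apply_of hh hf, hf, ← map_pow, ← expand_pow_card, expand_aeval, hx]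

variable [Finite V] {σ : F →+* F} {B : V → V → F} {hB : SForm σ B} {p : ℕ}

theorem isom_pow (hhB : ∀ v w, B (h v) (h w) = B v w) (k : ℕ) : ∀ v w, B ((h ^ k) v) ((h ^ k) w) = B v w := by
  induction k with
  | zero => intro v w; rfl
  | succ k ih =>
    intro v w
    rw [pow_succ, Module.End.mul_apply, Module.End.mul_apply, ih, hhB]

theorem pow_eq_self_of_modEq (hxp : x ^ p = 1) {n : ℕ} (hn1 : 1 ≤ n) (hn : p ∣ n - 1) : x ^ n = x := by
  obtain ⟨k, hk⟩ := hn
  have h1 : n = p * k + 1 := by omega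
  rw [h1, pow_succ, pow_mul, hxp, one_pow, one_mul]

theorem block_pow [Finite F] [Nontrivial V] (hX : Block hB x p) {d : ℕ} (hd : p ∣ Nat.card F ^ d - 1)
    (hhB : ∀ v w, B (h v) (h w) = B v w) (hh : Commute h x) : h ^ (Nat.card F ^ d - 1) = 1 := by
  obtain ⟨U, -, hU⟩ := exists_min (x := x) (W := ⊤) (fun w _ => Submodule.mem_top) (by
    intro h
    obtain ⟨v, hv⟩ := exists_ne (0 : V)
    apply hv
    have : v ∈ (⊤ : Submodule F V) := Submodule.mem_top
    rw [h] at this
    exact (Submodule.mem_bot F).1 this)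
  obtain ⟨u, hu, hu0⟩ := (Submodule.ne_bot_iff _).1 hU.2.1
  have hpos : 1 ≤ Nat.card F ^ d := Nat.one_le_pow _ _ Nat.card_pos
  have h1 := pow_card_apply (pow_eq_self_of_modEq hX.pow hpos hd) hU hh ((hX.main hU hhB hh).1) hu
  refine hX.eq_one_of_fixed (isom_pow hhB _) (hh.pow_left _) hu0 ?_
  have hinj : ∀ v, h v = 0 → v = 0 := by
    intro v hv
    apply hX.nondeg
    intro w
    rw [← hhB, hv, hB.zero_left]
  rw [← sub_eq_zero]
  apply hinj
  rw [map_sub, sub_eq_zero, ← Module.End.mul_apply, ← pow_succ', Nat.sub_add_cancel hpos, h1]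

/-- the isometries commuting with `x` on the moved space -/
theorem isoP_pow [Finite F] (hX : IsoP hB x p) (hL : Large B x) {d : ℕ} (hd : p ∣ Nat.card F ^ d - 1)
    (hhB : ∀ v w, B (h v) (h w) = B v w) (hh : Commute h x) {v : V} (hv : v ∈ IsoP.Y hB x) :
    (h ^ (Nat.card F ^ d - 1)) v = v := by
  haveI : Nontrivial (IsoP.Y hB x) := (Submodule.nontrivial_iff_ne_bot).2 hX.Y_ne_bot
  have hinv : _root_.Cfsg.Agent.H182.Cent.Inv h (IsoP.Y hB x) := hX.inv_Y hh hhB
  have h1 : resE h hinv ^ (Nat.card F ^ d - 1) = 1 := by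
    refine block_pow (hX.block hL) hd (fun a b => hhB _ _) ?_
    ext a
    have : (h * x) (a : V) = (x * h) (a : V) := by rw [hh.eq]
    exact this
  have h2 := resE_pow h hinv (Nat.card F ^ d - 1) ⟨v, hv⟩
  rw [h1] at h2
  exact h2.symm

/-- an involution commuting with `x` is a sign on the moved space -/
theorem isoP_sign (hX : IsoP hB x p) (hL : Large B x) {t : Module.End F V} (ht : t * t = 1)
    (htB : ∀ v w, B (t v) (t w) = B v w) (htx : Commute t x) :
    (∀ v ∈ IsoP.Y hB x, t v = v) ∨ (∀ v ∈ IsoP.Y hB x, t v = -v) := by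
  haveI : Nontrivial (IsoP.Y hB x) := (Submodule.nontrivial_iff_ne_bot).2 hX.Y_ne_bot
  have hinv : _root_.Cfsg.Agent.H182.Cent.Inv t (IsoP.Y hB x) := hX.inv_Y htx htB
  have hcomm : Commute (resE t hinv) (resE x hX.invY) := by
    ext a
    have : (t * x) (a : V) = (x * t) (a : V) := by rw [htx.eq]
    exact this
  by_cases hfix : ∃ v ∈ IsoP.Y hB x, v ≠ 0 ∧ t v = v
  · left
    obtain ⟨v, hv, hv0, htv⟩ := hfix
    have h1 : resE t hinv = 1 :=
      (hX.block hL).eq_one_of_fixed (v := ⟨v, hv⟩) (fun a b => htB _ _) hcomm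
        (fun h => hv0 (congrArg Subtype.val h)) (Subtype.ext htv)
    intro w hw
    exact congrArg Subtype.val (LinearMap.congr_fun h1 ⟨w, hw⟩)
  · right
    push Not at hfix
    intro v hv
    have h1 : v + t v ∈ IsoP.Y hB x := Submodule.add_mem _ hv (hinv v hv)
    have h2 : t (v + t v) = v + t v := by
      have : (t * t) v = v := by rw [ht]; rfl
      rw [map_add, ← Module.End.mul_apply, this, add_comm]
    by_contra hne
    exact hfix _ h1 (fun h0 => hne (eq_neg_of_add_eq_zero_right h0)) h2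

end

end Cfsg.Agent.H134.CentPow
end

-- part: H134/OmegaThree
section
/-!
# Self-centralizing subgroups of order 13 of `PΩ₇(3)` and `PΩ⁺₈(3)` (helper134)

`omega_odd_three`, `omega_plus_three`, `omega_three`.
-/

set_option autoImplicit false
set_option linter.unusedSectionVars false
set_option linter.style.haveILetI false

namespace Cfsg.Agent.H134.OmegaThree

open Module QuadraticMap Cfsg.Agent.H182.Cent Cfsg.Agent.H134.CentPow
open Cfsg.Agent.ClassicalGeometry.SpinorSign Cfsg.Agent.ClassicalGeometry.OmegaIndex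

section

variable {F : Type} [Field F] [Fintype F] {ι : Type} [Fintype ι] [DecidableEq ι]

/-- The data used. -/
structure Dat (Q : QuadraticForm F (ι → F)) : Prop where
  card : Nat.card F = 3
  nondeg : (polarBilin Q).Nondegenerate
  dim : Fintype.card ι = 7 ∨ Fintype.card ι = 8
  sing : ∃ u : ι → F, u ≠ 0 ∧ Q u = 0
  one13 : Nat.card {v : ι → F // Q v = 1} % 13 = 2
  neg13 : Nat.card {v : ι → F // Q v = -1} % 13 ≤ 2
  one4 : Nat.card {v : ι → F // Q v = 1} % 4 = 0
  neg : Fintype.card ι = 8 → ∃ z : Cfsg.Omega F ⇑Q, rho (⇑Q) z = -1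
  dvd : 13 ∣ Nat.card (Cfsg.POmega F ⇑Q)
  ndvd : ¬ 13 ^ 2 ∣ Nat.card (Cfsg.Omega F ⇑Q)

variable {Q : QuadraticForm F (ι → F)}

theorem Dat.three (D : Dat Q) : (3 : F) = 0 := by
  have h := Nat.cast_card_eq_zero F
  rw [← Nat.card_eq_fintype_card, D.card] at h
  exact_mod_cast h

theorem Dat.two_ne (D : Dat Q) : (2 : F) ≠ 0 := by
  intro h
  have h3 := D.three
  have h1 : (1 : F) = 0 := by linear_combination h3 - h
  exact one_ne_zero h1

theorem Dat.thirteen_ne (D : Dat Q) : ((13 : ℕ) : F) ≠ 0 := by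
  intro h
  have h3 := D.three
  have h1 : (1 : F) = 0 := by
    have h4 : (13 : F) = 0 := by exact_mod_cast h
    linear_combination h4 - 4 * h3
  exact one_ne_zero h1

theorem Dat.cases (D : Dat Q) (e : F) : e = 0 ∨ e = 1 ∨ e = -1 := by
  classical
  by_contra hne
  push Not at hne
  have h2 := D.two_ne
  have h1 : (1 : F) ≠ -1 := fun h => h2 (by linear_combination h)
  have h3 : ({0, 1, -1, e} : Finset F).card ≤ Fintype.card F := Finset.card_le_univ _
  have h4 : ({0, 1, -1, e} : Finset F).card = 4 := by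
    rw [Finset.card_insert_of_notMem, Finset.card_insert_of_notMem, Finset.card_insert_of_notMem,
      Finset.card_singleton]
    · simp only [Finset.mem_singleton]
      exact fun h => hne.2.2 h.symm
    · simp only [Finset.mem_insert, Finset.mem_singleton, not_or]
      exact ⟨h1, fun h => hne.2.1 h.symm⟩
    · simp only [Finset.mem_insert, Finset.mem_singleton, not_or]
      exact ⟨zero_ne_one, fun h => one_ne_zero (neg_eq_zero.1 h.symm), fun h => hne.1 h.symm⟩
  have h5 := D.card
  rw [Nat.card_eq_fintype_card] at h5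
  omega

theorem Dat.nd (D : Dat Q) : ∀ v, (∀ w, polar (⇑Q) v w = 0) → v = 0 := fun v h => D.nondeg.1 v h

theorem Dat.finrank (D : Dat Q) : finrank F (ι → F) = 7 ∨ finrank F (ι → F) = 8 := by
  rw [Module.finrank_fintype_fun_eq_card]
  exact D.dim

theorem Dat.center (D : Dat Q) (z : Cfsg.Omega F ⇑Q) :
    z ∈ Subgroup.center (Cfsg.Omega F ⇑Q) ↔ rho (⇑Q) z = 1 ∨ rho (⇑Q) z = -1 := by
  have h3 : 3 ≤ Fintype.card ι := by rcases D.dim with h | h <;> omega
  rw [Cfsg.Agent.LieClassical.OrthCenter.mem_center_omega_iff D.nondeg h3 D.sing]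
  constructor
  · rintro (h | h)
    · left
      apply LinearMap.ext
      intro v
      rw [rho_apply, h, Matrix.one_mulVec]
      rfl
    · right
      apply LinearMap.ext
      intro v
      rw [rho_apply, h, Matrix.neg_mulVec, Matrix.one_mulVec]
      rfl
  · rintro (h | h)
    · left
      apply (Matrix.toLinAlgEquiv' : Matrix ι ι F ≃ₐ[F] Module.End F (ι → F)).injective
      rw [map_one]
      exact h
    · right
      apply (Matrix.toLinAlgEquiv' : Matrix ι ι F ≃ₐ[F] Module.End F (ι → F)).injective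
      rw [map_neg, map_one]
      exact h

theorem Dat.center_sq (D : Dat Q) : ∀ z ∈ Subgroup.center (Cfsg.Omega F ⇑Q), z * z = 1 := by
  intro z hz
  apply rho_injective (⇑Q)
  rw [map_mul, map_one]
  rcases (D.center z).1 hz with h1 | h1
  · rw [h1, one_mul]
  · rw [h1]
    apply LinearMap.ext
    intro v
    change -(-v) = v
    rw [neg_neg]

variable {x : Cfsg.Omega F ⇑Q}

theorem Dat.isoP (D : Dat Q) (hx : x ^ 13 = 1) (hx1 : x ≠ 1) : IsoP (sform_polar Q) (rho (⇑Q) x) 13 where
  nondeg := D.nd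
  isom := rho_polar Q x
  prime := by norm_num
  ne_two := by norm_num
  pow := by rw [← map_pow, hx, map_one]
  char := D.thirteen_ne
  ne_one := fun h1 => hx1 (rho_injective _ (by rw [h1, map_one]))

theorem Dat.block_dim (D : Dat Q) (hx : x ^ 13 = 1) {Z : Submodule F (ι → F)} (hZ : _root_.Cfsg.Agent.H182.Cent.Inv (rho (⇑Q) x) Z) (h0 : Z ≠ ⊥)
    (hnd : NonDeg (polar ⇑Q) Z) (hfix : ∀ z ∈ Z, rho (⇑Q) x z = z → z = 0) : Module.finrank F Z = 6 := by
  have hxr : (rho (⇑Q) x) ^ 13 = 1 := by rw [← map_pow, hx, map_one]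
  obtain ⟨k, hk⟩ := even_block Q (rho_polar Q x) (by decide : Odd 13) hxr hZ hnd hfix
  have hdvd := dvd_pow_sub_one (by norm_num : Nat.Prime 13) hxr hZ hfix
  rw [D.card] at hdvd
  have hle : Module.finrank F Z ≤ Module.finrank F (ι → F) := Submodule.finrank_le Z
  have h0' : Module.finrank F Z ≠ 0 := fun h => h0 (Submodule.finrank_eq_zero.1 h)
  have hle8 : Module.finrank F Z ≤ 8 := by rcases D.finrank with h | h <;> omega
  generalize Module.finrank F Z = n at *
  interval_cases n
  all_goals first | rfl | omega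

theorem Dat.large (D : Dat Q) (hx : x ^ 13 = 1) : Large (polar ⇑Q) (rho (⇑Q) x) := by
  intro Z hZ h0 hnd hfix
  have h6 := D.block_dim hx hZ h0 hnd hfix
  rcases D.finrank with h | h <;> omega

theorem Dat.finrank_Y (D : Dat Q) (hx : x ^ 13 = 1) (hx1 : x ≠ 1) :
    Module.finrank F (IsoP.Y (sform_polar Q) (rho (⇑Q) x)) = 6 := by
  have hX := D.isoP hx hx1
  exact D.block_dim hx hX.invY hX.Y_ne_bot hX.nonDegY (fun z hz => hX.fixY hz)

theorem Dat.finrank_N (D : Dat Q) (hx : x ^ 13 = 1) (hx1 : x ≠ 1) :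
    Module.finrank F (fixS (rho (⇑Q) x)) ≤ 2 ∧
      (Fintype.card ι = 7 → Module.finrank F (fixS (rho (⇑Q) x)) = 1) := by
  have h1 := (D.isoP hx hx1).finrank_add
  rw [D.finrank_Y hx hx1] at h1
  rw [Module.finrank_fintype_fun_eq_card] at h1
  rcases D.dim with h | h <;> omega

/-- the fixed points of `x` on the vectors of norm `e` -/
theorem Dat.count (D : Dat Q) (hx : x ^ 13 = 1) (hx1 : x ≠ 1) (e : F) :
    Nat.card {v : ι → F // Q v = e ∧ rho (⇑Q) x v = v} = Nat.card {v : ι → F // Q v = e} % 13 := by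
  classical
  haveI : Fact (Nat.Prime 13) := ⟨by norm_num⟩
  let f : Function.End {v : ι → F // Q v = e} := fun v => ⟨rho (⇑Q) x v, by rw [rho_isometry, v.2]⟩
  have hf : ∀ (k : ℕ) (v : {v : ι → F // Q v = e}), (((f ^ k) v : {v : ι → F // Q v = e}) : ι → F) =
      ((rho (⇑Q) x) ^ k) v := by
    intro k
    induction k with
    | zero => intro v; rfl
    | succ k ih =>
      intro v
      rw [pow_succ, pow_succ]
      change (((f ^ k) (f v) : {v : ι → F // Q v = e}) : ι → F) = _
      rw [ih]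
      rfl
  have hxr : (rho (⇑Q) x) ^ 13 = 1 := by rw [← map_pow, hx, map_one]
  have hf13 : f ^ 13 ^ 1 = 1 := by
    rw [pow_one]
    funext v
    apply Subtype.ext
    rw [hf, hxr]
    rfl
  have h1 := Equiv.Perm.card_fixedPoints_modEq hf13
  have h2 : Fintype.card (Function.fixedPoints f) = Nat.card {v : ι → F // Q v = e ∧ rho (⇑Q) x v = v} := by
    rw [← Nat.card_eq_fintype_card]
    refine Nat.card_congr ⟨fun v => ⟨v.1.1, v.1.2, congrArg Subtype.val v.2⟩,
      fun v => ⟨⟨v.1, v.2.1⟩, Subtype.ext v.2.2⟩, fun v => rfl, fun v => rfl⟩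
  rw [h2, ← Nat.card_eq_fintype_card] at h1
  have h3 : Nat.card {v : ι → F // Q v = e ∧ rho (⇑Q) x v = v} ≤ 9 := by
    have h4 : Nat.card {v : ι → F // Q v = e ∧ rho (⇑Q) x v = v} ≤ Nat.card (fixS (rho (⇑Q) x)) := by
      refine Nat.card_le_card_of_injective (fun v => ⟨v.1, mem_fixS.2 v.2.2⟩) ?_
      intro a b hab
      exact Subtype.ext ((congrArg (fun u : fixS (rho (⇑Q) x) => (u : ι → F)) hab :))
    refine h4.trans ?_
    rw [Module.natCard_eq_pow_finrank (K := F), D.card]
    calc 3 ^ _ ≤ 3 ^ 2 := Nat.pow_le_pow_right (by norm_num) (D.finrank_N hx hx1).1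
      _ = 9 := by norm_num
  have h5 : Nat.card {v : ι → F // Q v = e} % 13 = Nat.card {v : ι → F // Q v = e ∧ rho (⇑Q) x v = v} % 13 := h1
  rw [h5, Nat.mod_eq_of_lt (by omega)]

/-- The key contradiction. -/
theorem Dat.key (D : Dat Q) (hx : x ^ 13 = 1) (hx1 : x ≠ 1) {s : Cfsg.Omega F ⇑Q}
    (hN : ∀ v ∈ fixS (rho (⇑Q) x), rho (⇑Q) s v = v)
    (hY : ∀ v ∈ IsoP.Y (sform_polar Q) (rho (⇑Q) x), rho (⇑Q) s v = -v) : False := by
  classical
  have hX := D.isoP hx hx1
  have hdec : ∀ v, ∃ a ∈ fixS (rho (⇑Q) x), ∃ b ∈ IsoP.Y (sform_polar Q) (rho (⇑Q) x), a + b = v := by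
    intro v
    have hv : v ∈ fixS (rho (⇑Q) x) ⊔ IsoP.Y (sform_polar Q) (rho (⇑Q) x) := by
      rw [hX.compl.2.sup_eq_top]; exact Submodule.mem_top
    exact Submodule.mem_sup.1 hv
  have hss : ∀ v, rho (⇑Q) s (rho (⇑Q) s v) = v := by
    intro v
    obtain ⟨a, ha, b, hb, rfl⟩ := hdec v
    rw [map_add, hN a ha, hY b hb, map_add, map_neg, hN a ha, hY b hb, neg_neg]
  have hfix : ∀ v, rho (⇑Q) s v = v ↔ rho (⇑Q) x v = v := by
    intro v
    constructor
    · intro h
      obtain ⟨a, ha, b, hb, rfl⟩ := hdec v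
      rw [map_add, hN a ha, hY b hb] at h
      have h1 : -b = b := add_left_cancel h
      have h2 : (2 : F) • b = 0 := by
        rw [two_smul]
        nth_rw 1 [← h1]
        exact neg_add_cancel b
      have h3 : b = 0 := (smul_eq_zero.1 h2).resolve_left D.two_ne
      rw [h3, add_zero]
      exact mem_fixS.1 ha
    · intro h
      exact hN v (mem_fixS.2 h)
  let _ : Fintype {v : ι → F // Q v = 1} := Fintype.ofFinite _
  set σ : Equiv.Perm {v : ι → F // Q v = 1} := quadricPerm (⇑Q) 1 (s : Cfsg.isometryGroup F ⇑Q) with hσ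
  have hσv : ∀ v : {v : ι → F // Q v = 1}, ((σ v : {v : ι → F // Q v = 1}) : ι → F) = rho (⇑Q) s v := fun v => rfl
  have hσ2 : σ ^ 2 = 1 := by
    apply Equiv.ext
    intro v
    apply Subtype.ext
    rw [pow_two, Equiv.Perm.mul_apply, hσv, hσv, hss]
    rfl
  have hsign : Equiv.Perm.sign σ = 1 := by
    have h1 := ((mem_Omega_iff D.two_ne Q D.nondeg (by rcases D.dim with h | h <;> omega) one_ne_zero
      (s : Cfsg.isometryGroup F ⇑Q)).1 s.2).2
    rw [spinorSign_apply] at h1
    exact h1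
  obtain ⟨k, hk⟩ := Cfsg.Agent.SmallSimple.Parity.card_modEq_four_of_sign σ hσ2 hsign
  have h2 : Nat.card {v : {v : ι → F // Q v = 1} // σ v = v} =
      Nat.card {v : ι → F // Q v = 1 ∧ rho (⇑Q) x v = v} := by
    refine Nat.card_congr ⟨fun v => ⟨v.1.1, v.1.2, (hfix _).1 (congrArg Subtype.val v.2)⟩,
      fun v => ⟨⟨v.1, v.2.1⟩, Subtype.ext ((hfix _).2 v.2.2)⟩, fun v => rfl, fun v => rfl⟩
  rw [h2, D.count hx hx1 1, D.one13] at hk
  have h4 := D.one4
  omega

/-- `c ^ 2 = 1` on the fixed space of `x`. -/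
theorem Dat.sq_N (D : Dat Q) (hx : x ^ 13 = 1) (hx1 : x ≠ 1) {c : Cfsg.Omega F ⇑Q} (hc : Commute c x)
    {v : ι → F} (hv : rho (⇑Q) x v = v) : rho (⇑Q) c (rho (⇑Q) c v) = v := by
  classical
  have hX := D.isoP hx hx1
  have hcx : ∀ v, rho (⇑Q) x v = v → rho (⇑Q) x (rho (⇑Q) c v) = rho (⇑Q) c v := by
    intro v hv
    have h1 : (rho (⇑Q) x * rho (⇑Q) c) v = (rho (⇑Q) c * rho (⇑Q) x) v := by rw [← map_mul, ← map_mul, hc.eq]
    rw [Module.End.mul_apply, Module.End.mul_apply, hv] at h1
    exact h1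
  -- nonsingular vectors
  have key : ∀ v, rho (⇑Q) x v = v → Q v ≠ 0 → rho (⇑Q) c (rho (⇑Q) c v) = v := by
    intro v hv hQv
    have h2 : Nat.card {w : ι → F // Q w = Q v ∧ rho (⇑Q) x w = w} ≤ 2 := by
      rw [D.count hx hx1]
      rcases D.cases (Q v) with h | h | h
      · exact absurd h hQv
      · rw [h, D.one13]
      · rw [h]; exact D.neg13
    have hv0 : v ≠ 0 := by
      rintro rfl
      exact hQv (map_zero Q)
    have hvv : v ≠ -v := by
      intro h
      apply hv0
      have h3 : (2 : F) • v = 0 := by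
        rw [two_smul]
        nth_rw 2 [h]
        exact add_neg_cancel v
      exact (smul_eq_zero.1 h3).resolve_left D.two_ne
    have h3 : rho (⇑Q) c v = v ∨ rho (⇑Q) c v = -v := by
      by_contra hne
      push Not at hne
      let g : Fin 3 → {w : ι → F // Q w = Q v ∧ rho (⇑Q) x w = w} :=
        ![⟨v, rfl, hv⟩, ⟨-v, by rw [QuadraticMap.map_neg], by rw [map_neg, hv]⟩,
          ⟨rho (⇑Q) c v, rho_isometry Q c v, hcx v hv⟩]
      have hg : Function.Injective g := by
        intro i j hij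
        have h4 := congrArg Subtype.val hij
        fin_cases i <;> fin_cases j
        · rfl
        · exact absurd h4 hvv
        · exact absurd h4.symm hne.1
        · exact absurd h4.symm hvv
        · rfl
        · exact absurd h4.symm hne.2
        · exact absurd h4 hne.1
        · exact absurd h4 hne.2
        · rfl
      have h5 := Nat.card_le_card_of_injective g hg
      rw [Nat.card_fin] at h5
      omega
    rcases h3 with h3 | h3
    · rw [h3, h3]
    · rw [h3, map_neg, h3, neg_neg]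
  by_cases hQv : Q v = 0
  · by_cases hv0 : v = 0
    · rw [hv0, map_zero, map_zero]
    -- a partner
    obtain ⟨w, hw, hb⟩ : ∃ w, rho (⇑Q) x w = w ∧ polar (⇑Q) v w ≠ 0 := by
      by_contra hno
      push Not at hno
      apply hv0
      exact hX.compl.1 v (mem_fixS.2 hv) fun w hw => hno w (mem_fixS.1 hw)
    have hadd : ∀ a b, Q (a + b) = Q a + Q b + polar (⇑Q) a b := fun a b => by
      rw [polar]; ring
    -- a nonsingular partner
    obtain ⟨w, hw, hb, hQw⟩ : ∃ w, rho (⇑Q) x w = w ∧ polar (⇑Q) v w ≠ 0 ∧ Q w ≠ 0 := by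
      by_cases hQw : Q w = 0
      · refine ⟨v + w, by rw [map_add, hv, hw], ?_, ?_⟩
        · rw [polar_add_right, polar_self, hQv, smul_zero, zero_add]
          exact hb
        · rw [hadd, hQv, hQw, zero_add, zero_add]
          exact hb
      · exact ⟨w, hw, hb, hQw⟩
    have hk := key w hw hQw
    by_cases h1 : Q (v + w) = 0
    · have h2 : Q (v - w) ≠ 0 := by
        intro h2
        rw [hadd, hQv] at h1
        rw [sub_eq_add_neg, hadd, QuadraticMap.map_neg, hQv, polar_neg_right] at h2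
        apply hQw
        have h3 : (2 : F) * Q w = 0 := by linear_combination h1 + h2
        exact (mul_eq_zero.1 h3).resolve_left D.two_ne
      have h3 := key (v - w) (by rw [map_sub, hv, hw]) h2
      rw [map_sub, map_sub, hk] at h3
      exact sub_left_injective h3
    · have h3 := key (v + w) (by rw [map_add, hv, hw]) h1
      rw [map_add, map_add, hk] at h3
      exact add_right_cancel h3
  · exact key v hv hQv

theorem Dat.pow_eq_one (D : Dat Q) (hx : x ^ 13 = 1) (hx1 : x ≠ 1) {c : Cfsg.Omega F ⇑Q} (hc : Commute c x) :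
    c ^ 26 = 1 := by
  have hX := D.isoP hx hx1
  apply rho_injective (⇑Q)
  rw [map_pow, map_one]
  apply LinearMap.ext
  intro v
  have hv : v ∈ fixS (rho (⇑Q) x) ⊔ IsoP.Y (sform_polar Q) (rho (⇑Q) x) := by
    rw [hX.compl.2.sup_eq_top]; exact Submodule.mem_top
  obtain ⟨a, ha, b, hb, rfl⟩ := Submodule.mem_sup.1 hv
  have h1 : ((rho (⇑Q) c) ^ 26) b = b := by
    have h2 := isoP_pow (d := 3) hX (D.large hx) (by rw [D.card]; norm_num) (rho_polar Q c) (hc.map (rho ⇑Q)) hb
    rw [D.card] at h2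
    exact h2
  have h2 : ((rho (⇑Q) c) ^ 26) a = a := by
    have h3 : ∀ k : ℕ, ((rho (⇑Q) c) ^ (2 * k)) a = a := by
      intro k
      induction k with
      | zero => rfl
      | succ k ih =>
        rw [show 2 * (k + 1) = 2 * k + 1 + 1 by ring, pow_succ, pow_succ, Module.End.mul_apply,
          Module.End.mul_apply, D.sq_N hx hx1 hc (mem_fixS.1 ha), ih]
    exact h3 13
  rw [map_add, h1, h2]
  rfl

/-- Involutions commuting with `x` are central. -/
theorem Dat.invol (D : Dat Q) (hx : x ^ 13 = 1) (hx1 : x ≠ 1) {t : Cfsg.Omega F ⇑Q} (ht : t * t = 1)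
    (hc : Commute t x) : t ∈ Subgroup.center (Cfsg.Omega F ⇑Q) := by
  have hX := D.isoP hx hx1
  set T := rho (⇑Q) t with hT
  have hTT : T * T = 1 := by rw [hT, ← map_mul, ht, map_one]
  have hTv : ∀ v, T (T v) = v := fun v => by rw [← Module.End.mul_apply, hTT]; rfl
  have h2 := D.two_ne
  let Ep : Submodule F (ι → F) := LinearMap.ker (T - 1)
  let Em : Submodule F (ι → F) := LinearMap.ker (T + 1)
  have hEp : ∀ v, v ∈ Ep ↔ T v = v := fun v => by
    rw [LinearMap.mem_ker, LinearMap.sub_apply, sub_eq_zero]; rfl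
  have hEm : ∀ v, v ∈ Em ↔ T v = -v := fun v => by
    rw [LinearMap.mem_ker, LinearMap.add_apply, add_eq_zero_iff_eq_neg]; rfl
  have hcompl : IsCompl Ep Em := by
    refine ⟨?_, ?_⟩
    · rw [disjoint_iff, Submodule.eq_bot_iff]
      rintro v ⟨h3, h4⟩
      have h3' := (hEp v).1 h3
      have h4' := (hEm v).1 h4
      rw [h3'] at h4'
      have h5 : (2 : F) • v = 0 := by
        rw [two_smul]
        nth_rw 2 [h4']
        exact add_neg_cancel v
      exact (smul_eq_zero.1 h5).resolve_left h2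
    · rw [codisjoint_iff, Submodule.eq_top_iff']
      intro v
      refine Submodule.mem_sup.2 ⟨(2 : F)⁻¹ • (v + T v), ?_, (2 : F)⁻¹ • (v - T v), ?_, ?_⟩
      · rw [hEp, map_smul, map_add, hTv, add_comm]
      · rw [hEm, map_smul, map_sub, hTv, ← smul_neg, neg_sub]
      · rw [← smul_add, show v + T v + (v - T v) = (2 : F) • v by rw [two_smul]; abel, smul_smul,
          inv_mul_cancel₀ h2, one_smul]
  have hdet : LinearMap.det T = 1 := by
    have h3 := ((mem_Omega_iff h2 Q D.nondeg (by rcases D.dim with h | h <;> omega) one_ne_zero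
      (t : Cfsg.isometryGroup F ⇑Q)).1 t.2).1
    rw [← LinearMap.det_toLin'] at h3
    exact h3
  have heven : Even (Module.finrank F Em) := by
    have h3 := Cfsg.Agent.OddHalf.NI3.Bad.Lin.det_of_isCompl T hcompl (a := 1) (b := -1)
      (fun v hv => by rw [one_smul]; exact (hEp v).1 hv) (fun v hv => by rw [neg_one_smul]; exact (hEm v).1 hv)
    rw [hdet, one_pow, one_mul] at h3
    by_contra hodd
    rw [Nat.not_even_iff_odd] at hodd
    rw [hodd.neg_one_pow] at h3
    exact h2 (by linear_combination h3)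
  have hsum : Module.finrank F Ep + Module.finrank F Em = Fintype.card ι := by
    rw [Submodule.finrank_add_eq_of_isCompl hcompl, Module.finrank_fintype_fun_eq_card]
  have hY6 := D.finrank_Y hx hx1
  have hTN : ∀ v ∈ fixS (rho (⇑Q) x), T v ∈ fixS (rho (⇑Q) x) := by
    intro v hv
    rw [mem_fixS] at hv ⊢
    have h1 : (rho (⇑Q) x * T) v = (T * rho (⇑Q) x) v := by rw [hT, ← map_mul, ← map_mul, hc.eq]
    rw [Module.End.mul_apply, Module.End.mul_apply, hv] at h1
    exact h1
  have hNY : ∀ v ∈ fixS (rho (⇑Q) x), v ∈ IsoP.Y (sform_polar Q) (rho (⇑Q) x) → v = 0 := by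
    intro v hv hv'
    exact hX.fixY hv' (mem_fixS.1 hv)
  rcases isoP_sign hX (D.large hx) hTT (rho_polar Q t) (hc.map (rho ⇑Q)) with hs | hs
  · -- `t = 1` on `Y`
    have hle : IsoP.Y (sform_polar Q) (rho (⇑Q) x) ≤ Ep := fun v hv => (hEp v).2 (hs v hv)
    have h6 := Submodule.finrank_mono hle
    by_cases h0 : Module.finrank F Em = 0
    · rw [D.center]
      left
      apply LinearMap.ext
      intro v
      have h3 : Em = ⊥ := Submodule.finrank_eq_zero.1 h0
      have h4 : Ep = ⊤ := by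
        have := hcompl.sup_eq_top
        rwa [h3, sup_bot_eq] at this
      have h5 : v ∈ Ep := by rw [h4]; exact Submodule.mem_top
      exact (hEp v).1 h5
    · exfalso
      obtain ⟨k, hk⟩ := heven
      have h8 : Fintype.card ι = 8 := by rcases D.dim with h | h <;> omega
      have hE : Module.finrank F Ep = 6 := by omega
      have hYE : IsoP.Y (sform_polar Q) (rho (⇑Q) x) = Ep :=
        Submodule.eq_of_le_of_finrank_eq hle (by rw [hY6, hE])
      obtain ⟨z, hz⟩ := D.neg h8
      refine D.key hx hx1 (s := z * t) ?_ ?_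
      · intro v hv
        have h3 : v + T v ∈ Ep := by rw [hEp, map_add, hTv, add_comm]
        rw [← hYE] at h3
        have h4 := hNY _ (Submodule.add_mem _ hv (hTN v hv)) h3
        rw [map_mul, hz, Module.End.mul_apply, ← hT, eq_neg_of_add_eq_zero_right h4]
        change -(-v) = v
        rw [neg_neg]
      · intro v hv
        rw [map_mul, hz, Module.End.mul_apply, hs v hv]
        rfl
  · -- `t = -1` on `Y`
    have hle : IsoP.Y (sform_polar Q) (rho (⇑Q) x) ≤ Em := fun v hv => (hEm v).2 (hs v hv)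
    have h6 := Submodule.finrank_mono hle
    by_cases h0 : Module.finrank F Ep = 0
    · rw [D.center]
      right
      apply LinearMap.ext
      intro v
      have h3 : Ep = ⊥ := Submodule.finrank_eq_zero.1 h0
      have h4 : Em = ⊤ := by
        have := hcompl.sup_eq_top
        rwa [h3, bot_sup_eq] at this
      have h5 : v ∈ Em := by rw [h4]; exact Submodule.mem_top
      exact (hEm v).1 h5
    · exfalso
      obtain ⟨k, hk⟩ := heven
      have hE : Module.finrank F Em = 6 := by rcases D.dim with h | h <;> omega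
      have hYE : IsoP.Y (sform_polar Q) (rho (⇑Q) x) = Em :=
        Submodule.eq_of_le_of_finrank_eq hle (by rw [hY6, hE])
      refine D.key hx hx1 (s := t) ?_ hs
      intro v hv
      have h3 : v - T v ∈ Em := by rw [hEm, map_sub, hTv, neg_sub]
      rw [← hYE] at h3
      have h4 := hNY _ (Submodule.sub_mem _ hv (hTN v hv)) h3
      exact (sub_eq_zero.1 h4).symm

seal _root_.Finset.sum _root_.dotProduct in
theorem Dat.cent (D : Dat Q) (hx : x ^ 13 = 1) (hx1 : x ≠ 1) {c : Cfsg.Omega F ⇑Q} (hc : Commute c x) :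
    ∃ z ∈ Subgroup.center (Cfsg.Omega F ⇑Q), ∃ y ∈ Subgroup.zpowers x, c = y * z := by
  haveI : Fact (Nat.Prime 13) := ⟨by norm_num⟩
  have h26 := D.pow_eq_one hx hx1 hc
  refine ⟨c ^ 13, ?_, c ^ 14, ?_, ?_⟩
  · refine D.invol hx hx1 ?_ (hc.pow_left _)
    rw [← pow_add]
    exact h26
  · -- Sylow
    have hox : orderOf x = 13 := orderOf_eq_prime hx hx1
    have hz13 : (c ^ 14) ^ 13 = 1 := by
      rw [← pow_mul, show 14 * 13 = 26 * 7 by norm_num, pow_mul, h26, one_pow]
    by_contra hnot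
    apply D.ndvd
    have hcz : Commute x (c ^ 14) := (hc.pow_left _).symm
    have hpx : IsPGroup 13 (Subgroup.zpowers x) := IsPGroup.of_card (n := 1) (by rw [Nat.card_zpowers, hox, pow_one])
    have hpz : IsPGroup 13 (Subgroup.zpowers (c ^ 14)) := by
      intro g
      obtain ⟨g, k, rfl⟩ := g
      refine ⟨1, Subtype.ext ?_⟩
      change ((c ^ 14) ^ k) ^ 13 ^ 1 = 1
      rw [pow_one, ← zpow_natCast, ← zpow_mul, mul_comm, zpow_mul, zpow_natCast, hz13, one_zpow]
    have hn : Subgroup.zpowers x ≤ Subgroup.normalizer (Subgroup.zpowers (c ^ 14) : Set (Cfsg.Omega F ⇑Q)) := by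
      rw [Subgroup.zpowers_le]
      rw [Subgroup.mem_normalizer_iff]
      intro b
      constructor
      · rintro ⟨j, rfl⟩
        refine ⟨j, ?_⟩
        change (c ^ 14) ^ j = x * (c ^ 14) ^ j * x⁻¹
        rw [(hcz.zpow_right j).eq, mul_inv_cancel_right]
      · rintro ⟨j, hj⟩
        refine ⟨j, ?_⟩
        change (c ^ 14) ^ j = x * b * x⁻¹ at hj
        change (c ^ 14) ^ j = b
        have h1 : x⁻¹ * (c ^ 14) ^ j * x = b := by rw [hj]; group
        rw [← h1, mul_assoc, ← (hcz.zpow_right j).eq, inv_mul_cancel_left]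
    have hpH : IsPGroup 13 ↥(Subgroup.zpowers x ⊔ Subgroup.zpowers (c ^ 14)) := hpx.to_sup_of_normal_right' hpz hn
    obtain ⟨n, hn'⟩ := IsPGroup.iff_card.1 hpH
    by_contra hnd
    have hn1 : n ≤ 1 := by
      by_contra hlt
      apply hnd
      exact (pow_dvd_pow 13 (by omega : 2 ≤ n)).trans (by rw [← hn']; exact Subgroup.card_subgroup_dvd_card _)
    have h13 : Nat.card ↥(Subgroup.zpowers x ⊔ Subgroup.zpowers (c ^ 14)) ≤ Nat.card (Subgroup.zpowers x) := by
      rw [hn', Nat.card_zpowers, hox]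
      calc 13 ^ n ≤ 13 ^ 1 := Nat.pow_le_pow_right (by norm_num) hn1
        _ = 13 := by norm_num
    have hEq := Subgroup.eq_of_le_of_card_ge (le_sup_left : Subgroup.zpowers x ≤ _) h13
    apply hnot
    rw [hEq]
    exact (le_sup_right : Subgroup.zpowers (c ^ 14) ≤ _) (Subgroup.mem_zpowers _)
  · rw [← pow_add, show 14 + 13 = 26 + 1 by norm_num, pow_succ, h26, one_mul]

theorem Dat.main (D : Dat Q) :
    ∃ R : Subgroup (Cfsg.POmega F ⇑Q), Nat.card R = 13 ∧ Subgroup.centralizer (R : Set (Cfsg.POmega F ⇑Q)) = R := by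
  haveI : Fact (Nat.Prime 13) := ⟨by norm_num⟩
  obtain ⟨s, hs⟩ := exists_prime_orderOf_dvd_card' 13 D.dvd
  obtain ⟨x, hxs, hx⟩ := exists_lift D.center_sq (by norm_num : Nat.Prime 13) (by norm_num) s
    (by rw [← hs]; exact pow_orderOf_eq_one s)
  have hx1 : x ≠ 1 := by
    rintro rfl
    rw [← hxs, QuotientGroup.mk_one, orderOf_one] at hs
    omega
  refine ⟨Subgroup.zpowers s, by rw [Nat.card_zpowers, hs], ?_⟩
  apply le_antisymm
  · intro y hy
    obtain ⟨g, rfl⟩ := QuotientGroup.mk_surjective y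
    have h1 : Commute (g : Cfsg.POmega F ⇑Q) (x : Cfsg.POmega F ⇑Q) := by
      rw [hxs]
      exact (Subgroup.mem_centralizer_iff.1 hy s (Subgroup.mem_zpowers s)).symm
    have h2 := commute_lift D.center_sq (by norm_num : Nat.Prime 13) (by norm_num) hx h1
    obtain ⟨z, hz, y, hyx, rfl⟩ := D.cent hx hx1 h2
    obtain ⟨k, rfl⟩ := hyx
    rw [QuotientGroup.mk_mul, (QuotientGroup.eq_one_iff z).2 hz, mul_one]
    refine ⟨k, ?_⟩
    rw [← hxs]
    rfl
  · intro y hy
    rw [Subgroup.mem_centralizer_iff]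
    intro w hw
    obtain ⟨i, rfl⟩ := hy
    obtain ⟨j, rfl⟩ := hw
    exact (Commute.refl s).zpow_zpow j i |>.eq

end

/-! ### The two groups -/

section

variable {F : Type} [Field F] [Fintype F]

open Cfsg.Agent.LieClassical.OrthForms

theorem cases_three (hF : Fintype.card F = 3) (e : F) : e = 0 ∨ e = 1 ∨ e = -1 := by
  classical
  have h2 : (2 : F) ≠ 0 :=
    Cfsg.Agent.H377.OOdd.two_ne_zero_of_odd (by rw [Nat.card_eq_fintype_card, hF]; decide)
  by_contra hne
  push Not at hne
  have h1 : (1 : F) ≠ -1 := fun h => h2 (by linear_combination h)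
  have h3 : ({0, 1, -1, e} : Finset F).card ≤ Fintype.card F := Finset.card_le_univ _
  have h4 : ({0, 1, -1, e} : Finset F).card = 4 := by
    rw [Finset.card_insert_of_notMem, Finset.card_insert_of_notMem, Finset.card_insert_of_notMem,
      Finset.card_singleton]
    · simp only [Finset.mem_singleton]
      exact fun h => hne.2.2 h.symm
    · simp only [Finset.mem_insert, Finset.mem_singleton, not_or]
      exact ⟨h1, fun h => hne.2.1 h.symm⟩
    · simp only [Finset.mem_insert, Finset.mem_singleton, not_or]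
      exact ⟨zero_ne_one, fun h => one_ne_zero (neg_eq_zero.1 h.symm), fun h => hne.1 h.symm⟩
  omega

theorem card_sq_one (hF : Fintype.card F = 3) : Nat.card {a : F // a ^ 2 - 1 = 0} = 2 := by
  classical
  have h2 : (2 : F) ≠ 0 :=
    Cfsg.Agent.H377.OOdd.two_ne_zero_of_odd (by rw [Nat.card_eq_fintype_card, hF]; decide)
  have h1 : (1 : F) ≠ -1 := fun h => h2 (by linear_combination h)
  have h3 : {a : F | a ^ 2 - 1 = 0} = {1, -1} := by
    ext a
    change a ^ 2 - 1 = 0 ↔ a = 1 ∨ a = -1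
    constructor
    · intro h
      rcases cases_three hF a with h0 | h0
      · exfalso
        rw [h0] at h
        exact one_ne_zero (by linear_combination -h)
      · exact h0
    · rintro (rfl | rfl) <;> ring
  change Nat.card ↥{a : F | a ^ 2 - 1 = 0} = 2
  rw [h3, Nat.card_coe_set_eq, Set.ncard_pair h1]

theorem card_sq_neg (hF : Fintype.card F = 3) : Nat.card {a : F // a ^ 2 - (-1) = 0} = 0 := by
  have h2 : (2 : F) ≠ 0 :=
    Cfsg.Agent.H377.OOdd.two_ne_zero_of_odd (by rw [Nat.card_eq_fintype_card, hF]; decide)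
  haveI : IsEmpty {a : F // a ^ 2 - (-1) = 0} := by
    refine ⟨fun ⟨a, h⟩ => ?_⟩
    rcases cases_three hF a with h0 | h0 | h0
    · rw [h0] at h
      exact one_ne_zero (by linear_combination h)
    · rw [h0] at h
      exact h2 (by linear_combination h)
    · rw [h0] at h
      exact h2 (by linear_combination h)
  exact Nat.card_of_isEmpty

theorem card_odd (c : F) :
    Nat.card {v : Unit ⊕ (Fin 3 ⊕ Fin 3) → F // Cfsg.quadFormOdd 3 F v = c} =
      Nat.card {p : (Fin 3 ⊕ Fin 3 → F) × F // Cfsg.quadFormPlus 3 F p.1 + (p.2 ^ 2 - c) = 0} := by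
  refine Nat.card_congr ⟨fun v => ⟨(fun i => v.1 (Sum.inr i), v.1 (Sum.inl ())), ?_⟩,
    fun p => ⟨Sum.elim (fun _ => p.1.2) p.1.1, ?_⟩, ?_, ?_⟩
  · have h2 : Cfsg.quadFormOdd 3 F v.1 = c := v.2
    have h1 : Cfsg.quadFormOdd 3 F v.1 =
      v.1 (.inl ()) ^ 2 + Cfsg.quadFormPlus 3 F (fun i => v.1 (Sum.inr i)) := rfl
    change Cfsg.quadFormPlus 3 F (fun i => v.1 (Sum.inr i)) + (v.1 (Sum.inl ()) ^ 2 - c) = 0
    linear_combination h2 - h1
  · have h2 : Cfsg.quadFormPlus 3 F p.1.1 + (p.1.2 ^ 2 - c) = 0 := p.2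
    change p.1.2 ^ 2 + Cfsg.quadFormPlus 3 F p.1.1 = c
    linear_combination h2
  · intro v
    apply Subtype.ext
    funext i
    rcases i with i | i <;> rfl
  · intro p
    rfl

theorem odd_dat (hF : Fintype.card F = 3) : Dat (oddForm 3 F) := by
  classical
  have ho : Odd (Nat.card F) := by rw [Nat.card_eq_fintype_card, hF]; decide
  have h2 : (2 : F) ≠ 0 := Cfsg.Agent.H377.OOdd.two_ne_zero_of_odd ho
  have hone : Nat.card {v : Unit ⊕ (Fin 3 ⊕ Fin 3) → F // oddForm 3 F v = 1} = 756 := by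
    rw [coe_oddForm, card_odd]
    have h := Cfsg.Agent.LieClassical.QuadCount.card_sum (F := F) 3 (fun a : F => a ^ 2 - 1)
    rw [card_sq_one hF, hF] at h
    omega
  have hneg : Nat.card {v : Unit ⊕ (Fin 3 ⊕ Fin 3) → F // oddForm 3 F v = -1} = 702 := by
    rw [coe_oddForm, card_odd]
    have h := Cfsg.Agent.LieClassical.QuadCount.card_sum (F := F) 3 (fun a : F => a ^ 2 - (-1))
    rw [card_sq_neg hF, hF] at h
    omega
  refine ⟨by rw [Nat.card_eq_fintype_card, hF],
    Cfsg.Agent.H182.Sign.nondegenerate_iff_nondeg.2 (nondeg_oddForm 3 F h2), Or.inl (by simp), ?_, by rw [hone],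
    by rw [hneg]; norm_num, by rw [hone], ?_, ?_, ?_⟩
  · obtain ⟨w, hw0, hw, -⟩ := Cfsg.Agent.LieClassical.OrthFinite.exists_sing_perp (Q := oddForm 3 F) (n := 0) ![] (by
      rw [Module.finrank_fintype_fun_eq_card]; simp)
    exact ⟨w, hw0, hw⟩
  · intro h
    simp at h
  · rw [coe_oddForm]
    have hc := Cfsg.Agent.S0292.result hF (by decide) 3 (by norm_num)
    norm_num [Finset.prod_range_succ, -Nat.card_eq_fintype_card] at hc
    have h1 : Nat.card (Cfsg.POmega F (Cfsg.quadFormOdd 3 F)) = 4585351680 := by omega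
    rw [h1]
    norm_num
  · rw [coe_oddForm]
    intro h
    have hc := Cfsg.Agent.S0286.result hF (by decide) 3
    norm_num [Finset.prod_range_succ, -Nat.card_eq_fintype_card] at hc
    have h1 := h.trans (Subgroup.card_subgroup_dvd_card (Cfsg.Omega F (Cfsg.quadFormOdd 3 F)))
    rw [hc] at h1
    revert h1
    norm_num

theorem plus_dat (hF : Fintype.card F = 3) : Dat (plusForm 4 F) := by
  classical
  have ho : Odd (Nat.card F) := by rw [Nat.card_eq_fintype_card, hF]; decide
  have h2 : (2 : F) ≠ 0 := Cfsg.Agent.H377.OOdd.two_ne_zero_of_odd ho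
  have hone : ∀ c : F, c ≠ 0 → Nat.card {v : Fin 4 ⊕ Fin 4 → F // plusForm 4 F v = c} = 2160 := by
    intro c hc
    rw [coe_plusForm]
    have h := Cfsg.Agent.LieClassical.QuadCount.card_plus (F := F) 4 c
    rw [if_neg hc, hF] at h
    omega
  have h1 := hone 1 one_ne_zero
  have h3 := hone (-1) (neg_ne_zero.2 one_ne_zero)
  refine ⟨by rw [Nat.card_eq_fintype_card, hF],
    Cfsg.Agent.H182.Sign.nondegenerate_iff_nondeg.2 (nondeg_plusForm 4 F), Or.inr (by simp), ?_, by rw [h1],
    by rw [h3], by rw [h1], ?_, ?_, ?_⟩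
  · obtain ⟨w, hw0, hw, -⟩ := Cfsg.Agent.LieClassical.OrthFinite.exists_sing_perp (Q := plusForm 4 F) (n := 0) ![] (by
      rw [Module.finrank_fintype_fun_eq_card]; simp)
    exact ⟨w, hw0, hw⟩
  · intro _
    have hex : ∃ g : ↥(Cfsg.isometryGroup F ⇑(plusForm 4 F)), g ∈ Cfsg.Omega F ⇑(plusForm 4 F) ∧
        ((g : Matrix.GeneralLinearGroup (Fin 4 ⊕ Fin 4) F) : Matrix (Fin 4 ⊕ Fin 4) (Fin 4 ⊕ Fin 4) F) = -1 := by
      rw [coe_plusForm]
      exact (Cfsg.Agent.S0790.result hF (by decide) 4 (by norm_num)).2 (by norm_num)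
    obtain ⟨g, hg, hgm⟩ := hex
    refine ⟨⟨g, hg⟩, ?_⟩
    apply LinearMap.ext
    intro v
    rw [rho_apply]
    change Matrix.mulVec ((g : Matrix.GeneralLinearGroup (Fin 4 ⊕ Fin 4) F) : Matrix (Fin 4 ⊕ Fin 4) (Fin 4 ⊕ Fin 4) F) v = -v
    rw [hgm, Matrix.neg_mulVec, Matrix.one_mulVec]
  · rw [coe_plusForm]
    have hc := Cfsg.Agent.S0293.result hF 4 (by norm_num)
    norm_num [Finset.prod_range_succ, -Nat.card_eq_fintype_card] at hc
    have h1 : Nat.card (Cfsg.POmega F (Cfsg.quadFormPlus 4 F)) = 4952179814400 := by omega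
    rw [h1]
    norm_num
  · rw [coe_plusForm]
    intro h
    have hc := Cfsg.Agent.S0287.result hF 4 (by norm_num)
    norm_num [Finset.prod_range_succ, -Nat.card_eq_fintype_card] at hc
    have h1 := h.trans (Subgroup.card_subgroup_dvd_card (Cfsg.Omega F (Cfsg.quadFormPlus 4 F)))
    rw [hc] at h1
    revert h1
    norm_num

/-- `PΩ₇(3)` -/
theorem omega_odd_three (hF : Fintype.card F = 3) :
    ∃ R : Subgroup (Cfsg.POmega F (Cfsg.quadFormOdd 3 F)), Nat.card R = 13 ∧
      Subgroup.centralizer (R : Set (Cfsg.POmega F (Cfsg.quadFormOdd 3 F))) = R := by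
  have h := (odd_dat hF).main
  rw [coe_oddForm] at h
  exact h

/-- `PΩ⁺₈(3)` -/
theorem omega_plus_three (hF : Fintype.card F = 3) :
    ∃ R : Subgroup (Cfsg.POmega F (Cfsg.quadFormPlus 4 F)), Nat.card R = 13 ∧
      Subgroup.centralizer (R : Set (Cfsg.POmega F (Cfsg.quadFormPlus 4 F))) = R := by
  have h := (plus_dat hF).main
  rw [coe_plusForm] at h
  exact h

end

end Cfsg.Agent.H134.OmegaThree
end

private theorem dce_1acd40855a3d : _root_.True := by
  try have : _root_.True := by simp only [_root_.Cfsg.Agent.H182.Cent.IsoP.Y.congr_simp]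
  exact _root_.True.intro
end
end
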