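import Cfsg.Agent.ChevalleyStructure.St.TabAll
import Cfsg.Agent.H134.PairFacts
import Cfsg.Agent.H133.ScCentral
set_option linter.all false

-- part: H134/FamInj
section
/-!
# Families of root elements in an arbitrary group

`y : ℕ → K → E` a family of elements of a group `E`, additive in the parameter, satisfying the commutator
relations for the roots in a closed set `S` on which a linear functional `f` is positive; `θ : E →* GL` with
`θ (y r t) = x_r(t)`. Then `θ` is injective on `⟨y r t : r ∈ S⟩`.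
-/

set_option autoImplicit false

namespace Cfsg.Agent.H134.FamInj

open Cfsg.Lie Cfsg.Agent.ChevalleyStructure.St.Functional Cfsg.Agent.ChevalleyStructure.St.Inj

universe u v

variable {K : Type u} [Field K] {D : ChevalleyDatum} {E : Type v} [Group E]

/-- The product of a word in a family. -/
def wordF (y : ℕ → K → E) (w : List (ℕ × K)) : E := (w.map fun p => y p.1 p.2).prod

omit [Field K] in
theorem wordF_nil (y : ℕ → K → E) : wordF y [] = 1 := rfl

omit [Field K] in
theorem wordF_cons (y : ℕ → K → E) (p : ℕ × K) (w : List (ℕ × K)) :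
    wordF y (p :: w) = y p.1 p.2 * wordF y w := by
  show (List.map _ (p :: w)).prod = _
  rw [List.map_cons, List.prod_cons]; rfl

omit [Field K] in
theorem wordF_append (y : ℕ → K → E) (w v : List (ℕ × K)) :
    wordF y (w ++ v) = wordF y w * wordF y v := by
  show (List.map _ (w ++ v)).prod = _
  rw [List.map_append, List.prod_append]; rfl

omit [Field K] in
theorem map_wordF {G : Type*} [Group G] (φ : E →* G) (y : ℕ → K → E) (w : List (ℕ × K)) :
    φ (wordF y w) = wordF (fun r t => φ (y r t)) w := by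
  show φ ((w.map fun p => y p.1 p.2).prod) = _
  rw [map_list_prod, List.map_map]; rfl

omit [Field K] in
theorem wordF_congr {y y' : ℕ → K → E} {w : List (ℕ × K)} (h : ∀ p ∈ w, y p.1 p.2 = y' p.1 p.2) :
    wordF y w = wordF y' w := by
  show (w.map fun p => y p.1 p.2).prod = (w.map fun p => y' p.1 p.2).prod
  congr 1
  exact List.map_congr_left h

omit [Field K] in
theorem wordF_mem (y : ℕ → K → E) (H : Subgroup E) {w : List (ℕ × K)} (h : ∀ p ∈ w, y p.1 p.2 ∈ H) :
    wordF y w ∈ H := by
  refine Subgroup.list_prod_mem _ ?_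
  intro x hx
  obtain ⟨p, hp, rfl⟩ := List.mem_map.1 hx
  exact h p hp

omit [Field K] in
theorem conj_wordF (h : E) (y : ℕ → K → E) (w : List (ℕ × K)) :
    h * wordF y w * h⁻¹ = wordF (fun r t => h * y r t * h⁻¹) w := by
  induction w with
  | nil => rw [wordF_nil, wordF_nil, mul_one, mul_inv_cancel]
  | cons p w ih => rw [wordF_cons, wordF_cons, ← ih]; group

/-- The commutator relation (R2) for the pair `(r, s)`, in conjugation form. -/
def Rel2 (D : ChevalleyDatum) (y : ℕ → K → E) (r s : ℕ) : Prop :=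
  ∀ t u : K, (y r t)⁻¹ * y s u * y r t = y s u * wordF y (D.commWord K r s t u)

/-- The set `S` of roots is closed under the commutator formula. -/
def Closed (D : ChevalleyDatum) (S : ℕ → Prop) : Prop :=
  ∀ r s, r < D.nroots → s < D.nroots → S r → S s → s ≠ r → ∀ c ∈ D.commTerms r s, S c.1

/-- The filtration of the group generated by the `y r t`, `r ∈ S`. -/
def UF (D : ChevalleyDatum) (y : ℕ → K → E) (S : ℕ → Prop) (f : ℕ → ℤ) (k : ℤ) : Subgroup E :=
  Subgroup.closure {x | ∃ (r : ℕ) (t : K), r < D.nroots ∧ S r ∧ k ≤ rho D f r ∧ x = y r t}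

/-- The group generated by the `y r t` with `r ∈ S`. -/
def WF (D : ChevalleyDatum) (y : ℕ → K → E) (S : ℕ → Prop) : Subgroup E :=
  Subgroup.closure {x | ∃ (r : ℕ) (t : K), r < D.nroots ∧ S r ∧ x = y r t}

omit [Field K] in
theorem mem_UF (y : ℕ → K → E) {S : ℕ → Prop} {f : ℕ → ℤ} {k : ℤ} {r : ℕ} (hr : r < D.nroots) (hS : S r)
    (hf : k ≤ rho D f r) (t : K) :
    y r t ∈ UF D y S f k := Subgroup.subset_closure ⟨r, t, hr, hS, hf, rfl⟩

omit [Field K] in
theorem mem_WF (y : ℕ → K → E) {S : ℕ → Prop} {r : ℕ} (hr : r < D.nroots) (hS : S r) (t : K) :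
    y r t ∈ WF D y S := Subgroup.subset_closure ⟨r, t, hr, hS, rfl⟩

omit [Field K] in
theorem WF_eq_UF (y : ℕ → K → E) {S : ℕ → Prop} {f : ℕ → ℤ} (hpos : ∀ r < D.nroots, S r → 0 < f r) :
    WF D y S = UF D y S f D.nroots := by
  unfold WF UF
  congr 1
  ext x
  constructor
  · rintro ⟨r, t, hr, hS, rfl⟩
    exact ⟨r, t, hr, hS, (le_rho_iff hr).2 (hpos r hr hS), rfl⟩
  · rintro ⟨r, t, hr, hS, _, rfl⟩
    exact ⟨r, t, hr, hS, rfl⟩

section rels

variable {y : ℕ → K → E} (hadd : ∀ r < D.nroots, ∀ t u : K, y r t * y r u = y r (t + u))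

include hadd in
theorem fam_zero {r : ℕ} (hr : r < D.nroots) : y r 0 = 1 := by
  have h := hadd r hr 0 0
  rw [add_zero] at h
  exact mul_eq_left.1 h

include hadd in
theorem fam_inv {r : ℕ} (hr : r < D.nroots) (t : K) : (y r t)⁻¹ = y r (-t) :=
  inv_eq_of_mul_eq_one_right (by rw [hadd r hr, add_neg_cancel, fam_zero hadd hr])

omit hadd in
/-- `(y r t)⁻¹ y s u = y s u · w` moved: `y s u * y r t = y r t * (y s u * word)`. -/
theorem rel2_mul {r s : ℕ} (h : Rel2 D y r s) (t u : K) :
    y s u * y r t = y r t * (y s u * wordF y (D.commWord K r s t u)) := by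
  rw [← h t u]; group

include hadd in
/-- Conjugation step. -/
theorem UF_step (hw : Wf D) {f : ℕ → ℤ} (hf : Fun D f) {S : ℕ → Prop} (hpos : ∀ r < D.nroots, S r → 0 < f r)
    (hcl : Closed D S)
    (hrel : ∀ r s, r < D.nroots → s < D.nroots → s ≠ r → S r → S s → Rel2 D y r s)
    {k : ℤ} {r : ℕ}
    (hr : r < D.nroots) (hSr : S r) (hrk : rho D f r = k) {g : E} (hg : g ∈ UF D y S f k) :
    ∃ t : K, ∃ z ∈ UF D y S f (k + 1), g = y r t * z := by
  have hfr : 0 < f r := hpos r hr hSr
  have key : ∀ (s : ℕ) (u : K), s < D.nroots → S s → k ≤ rho D f s → ∀ g : E,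
      (∃ t : K, ∃ z ∈ UF D y S f (k + 1), g = y r t * z) →
      ∃ t : K, ∃ z ∈ UF D y S f (k + 1), y s u * g = y r t * z := by
    intro s u hs hSs hks g hg
    obtain ⟨t, z, hz, rfl⟩ := hg
    by_cases hsr : s = r
    · subst hsr
      exact ⟨u + t, z, hz, by rw [← mul_assoc, hadd s hs]⟩
    have hks' : k + 1 ≤ rho D f s := by
      rcases hks.lt_or_eq with h | h
      · exact h
      · exact absurd (rho_inj hs hr (by rw [← h, hrk])) hsr
    have hfs : 0 < f s := hpos s hs hSs
    refine ⟨t, (y s u * wordF y (D.commWord K r s t u)) * z, ?_, ?_⟩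
    · refine mul_mem (mul_mem (mem_UF y hs hSs hks' u) ?_) hz
      apply wordF_mem
      intro p hp
      obtain ⟨c, hc, rfl⟩ := List.mem_map.1 hp
      obtain ⟨h1, h2, h3, h4⟩ := commTerms_spec hw hr hs hc
      refine mem_UF y h1 (hcl r s hr hs hSr hSs hsr c hc) ?_ _
      have hfc := h4 f hf
      have hlt : f s < f c.1 := by
        rw [hfc]
        have e1 : 0 < (c.2.2.1 : ℤ) * f r := mul_pos (by exact_mod_cast h2) hfr
        have e2 : 1 * f s ≤ (c.2.2.2 : ℤ) * f s :=
          mul_le_mul_of_nonneg_right (by exact_mod_cast h3) hfs.le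
        omega
      have := rho_lt_of_f_lt hs h1 hlt
      show k + 1 ≤ rho D f c.1
      omega
    · rw [← mul_assoc, rel2_mul (hrel r s hr hs hsr hSr hSs)]; group
  unfold UF at hg
  induction hg using Subgroup.closure_induction_left with
  | one => exact ⟨0, 1, one_mem _, by rw [fam_zero hadd hr, mul_one]⟩
  | mul_left x hx g _ ih =>
    obtain ⟨s, u, hs, hSs, hks, rfl⟩ := hx
    exact key s u hs hSs hks g ih
  | inv_mul_cancel x hx g _ ih =>
    obtain ⟨s, u, hs, hSs, hks, rfl⟩ := hx
    rw [fam_inv hadd hs]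
    exact key s (-u) hs hSs hks g ih

variable (θ : E →* GL D.Idx K)
  (hθ : ∀ (r : ℕ) (t : K), r < D.nroots → ((θ (y r t) : GL D.Idx K) : Matrix D.Idx D.Idx K) = D.x K r t)

include hadd hθ in
theorem good_theta (hw : Wf D) {f : ℕ → ℤ} (hf : Fun D f) {S : ℕ → Prop} {r : ℕ} (hr : r < D.nroots)
    (hfr : 0 < f r) {g : E} (hg : g ∈ UF D y S f (rho D f r + 1)) :
    Good D f r ((θ g : GL D.Idx K) : Matrix D.Idx D.Idx K) := by
  have key : ∀ (s : ℕ) (u : K), s < D.nroots → rho D f r + 1 ≤ rho D f s → ∀ g : E,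
      Good D f r ((θ g : GL D.Idx K) : Matrix D.Idx D.Idx K) →
      Good D f r ((θ (y s u * g) : GL D.Idx K) : Matrix D.Idx D.Idx K) := by
    intro s u hs hrs g hg
    rw [map_mul, Units.val_mul, hθ s u hs]
    refine good_x_mul hw hf hr hfr hs ?_ (f_le_of_rho_le hr hs (by omega)) u hg
    rintro rfl
    omega
  unfold UF at hg
  induction hg using Subgroup.closure_induction_left with
  | one => rw [map_one, Units.val_one]; exact good_one f r
  | mul_left x hx g _ ih =>
    obtain ⟨s, u, hs, _, hks, rfl⟩ := hx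
    exact key s u hs hks g ih
  | inv_mul_cancel x hx g _ ih =>
    obtain ⟨s, u, hs, _, hks, rfl⟩ := hx
    rw [fam_inv hadd hs]
    exact key s (-u) hs hks g ih

include hadd hθ in
/-- A homomorphism with `θ (y r t) = x_r(t)` is injective on `⟨y r t : r ∈ S⟩`. -/
theorem inj_WF (hw : Wf D)
    (hco : ∀ r < D.nroots, ∃ i : Fin D.rank, (((D.coroot.getD r #[]).getD i.val 0 : ℤ) : K) ≠ 0)
    {f : ℕ → ℤ} (hf : Fun D f) {S : ℕ → Prop} (hpos : ∀ r < D.nroots, S r → 0 < f r) (hcl : Closed D S)
    (hrel : ∀ r s, r < D.nroots → s < D.nroots → s ≠ r → S r → S s → Rel2 D y r s)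
    {g : E} (hg : g ∈ WF D y S) (h1 : θ g = 1) : g = 1 := by
  obtain ⟨B, hB⟩ := Finset.exists_le ((Finset.range D.nroots).image (rho D f))
  have main : ∀ m : ℕ, ∀ k : ℤ, B + 1 ≤ k + m → ∀ g ∈ UF D y S f k, θ g = 1 → g = 1 := by
    intro m
    induction m with
    | zero =>
      intro k hBk g hg _
      have hempty : {x | ∃ (r : ℕ) (t : K), r < D.nroots ∧ S r ∧ k ≤ rho D f r ∧ x = y r t} = ∅ := by
        rw [Set.eq_empty_iff_forall_notMem]
        rintro x ⟨r, t, hr, _, hk, _⟩
        have := hB (rho D f r) (Finset.mem_image_of_mem _ (Finset.mem_range.2 hr))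
        simp only [Nat.cast_zero] at hBk
        omega
      unfold UF at hg
      rw [hempty, Subgroup.closure_empty] at hg
      exact Subgroup.mem_bot.1 hg
    | succ m ih =>
      intro k hBk g hg hg1
      by_cases hex : ∃ r < D.nroots, S r ∧ rho D f r = k
      · obtain ⟨r, hr, hSr, hrk⟩ := hex
        obtain ⟨t, z, hz, rfl⟩ := UF_step hadd hw hf hpos hcl hrel hr hSr hrk hg
        have hgood := good_theta hadd θ hθ hw hf hr (hpos r hr hSr) (by rw [hrk]; exact hz)
        obtain ⟨i, hi⟩ := hco r hr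
        have hent := x_mul_good_apply hw hf hr (hpos r hr hSr) t hgood i
        rw [← hθ r t hr, ← Units.val_mul, ← map_mul, hg1, Units.val_one, Matrix.one_apply_ne (by simp)] at hent
        have ht : t = 0 := by
          rcases mul_eq_zero.1 hent.symm with h | h
          · exact absurd h hi
          · exact h
        subst ht
        rw [fam_zero hadd hr, one_mul] at hg1 ⊢
        exact ih (k + 1) (by push_cast at hBk; omega) z hz hg1
      · have hle : UF D y S f k ≤ UF D y S f (k + 1) := by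
          unfold UF
          apply Subgroup.closure_mono
          rintro x ⟨r, t, hr, hSr, hk, rfl⟩
          refine ⟨r, t, hr, hSr, ?_, rfl⟩
          rcases hk.lt_or_eq with h | h
          · exact h
          · exact absurd ⟨r, hr, hSr, h.symm⟩ hex
        exact ih (k + 1) (by push_cast at hBk; omega) g (hle hg) hg1
  rw [WF_eq_UF y hpos] at hg
  exact main (B + 1 - D.nroots).toNat D.nroots (by omega) g hg h1

include hadd hθ in
/-- Two elements of `⟨y r t : r ∈ S⟩` with the same image are equal. -/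
theorem inj_WF' (hw : Wf D)
    (hco : ∀ r < D.nroots, ∃ i : Fin D.rank, (((D.coroot.getD r #[]).getD i.val 0 : ℤ) : K) ≠ 0)
    {f : ℕ → ℤ} (hf : Fun D f) {S : ℕ → Prop} (hpos : ∀ r < D.nroots, S r → 0 < f r) (hcl : Closed D S)
    (hrel : ∀ r s, r < D.nroots → s < D.nroots → s ≠ r → S r → S s → Rel2 D y r s)
    {g g' : E} (hg : g ∈ WF D y S) (hg' : g' ∈ WF D y S) (h : θ g = θ g') : g = g' := by
  have := inj_WF hadd θ hθ hw hco hf hpos hcl hrel (g := g⁻¹ * g') (mul_mem (inv_mem hg) hg')
    (by rw [map_mul, map_inv, h, inv_mul_cancel])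
  exact (inv_mul_eq_one.1 this)

end rels

end Cfsg.Agent.H134.FamInj
end

-- part: H134/LiftStep
section
/-!
# Lifting a commutator relation through a central extension

`π : E →* G` with central kernel, `x` a family of root elements in `G` satisfying the commutator relations, `y` a
family of lifts, additive in the parameter. One commutator relation for `y` follows from those for "higher" pairs
if there is a torus element (or if the kernel has no `p`-torsion, `p` the characteristic of `K`).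
-/

set_option autoImplicit false

namespace Cfsg.Agent.H134.LiftStep

open Cfsg.Lie Cfsg.Agent.ChevalleyStructure.St.Functional Cfsg.Agent.ChevalleyStructure.St.Inj
  Cfsg.Agent.H134.FamInj

universe u v w

variable {K : Type u} [Field K] {D : ChevalleyDatum} {E : Type v} [Group E] {G : Type w} [Group G]

/-- An element acting on the lifts `y` like a torus element, trivially on `r` and by a scalar `≠ 1` on `s`. -/
def TorGood (D : ChevalleyDatum) (y : ℕ → K → E) (r s : ℕ) : Prop :=
  ∃ (h : E) (a : ℕ → K), (∀ q < D.nroots, ∀ u : K, h * y q u * h⁻¹ = y q (a q * u)) ∧ a r = 1 ∧ a s ≠ 1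

/-- The kernel has no `p`-torsion, where `p = 0` in `K`. -/
def PGood (K : Type u) [Field K] (π : E →* G) : Prop := ∃ p : ℕ, (p : K) = 0 ∧ ∀ z ∈ π.ker, z ^ p = 1 → z = 1

/-- `π : E →* G` has central kernel; `x` is a family in `G` satisfying (R2) with images the root elements under
`θ`; `y` is a family of lifts, additive in the parameter. -/
structure Setup (D : ChevalleyDatum) (π : E →* G) (x : ℕ → K → G) (θ : G →* GL D.Idx K) (y : ℕ → K → E) :
    Prop where
  wf : Wf D
  coroot : ∀ r < D.nroots, ∃ i : Fin D.rank, (((D.coroot.getD r #[]).getD i.val 0 : ℤ) : K) ≠ 0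
  central : π.ker ≤ Subgroup.center E
  rel : ∀ r s, r < D.nroots → s < D.nroots → s ≠ r → s ≠ D.neg r → Rel2 D x r s
  theta : ∀ (r : ℕ) (t : K), r < D.nroots → ((θ (x r t) : GL D.Idx K) : Matrix D.Idx D.Idx K) = D.x K r t
  lift : ∀ (r : ℕ) (t : K), r < D.nroots → π (y r t) = x r t
  add : ∀ r < D.nroots, ∀ t u : K, y r t * y r u = y r (t + u)

variable {π : E →* G} {x : ℕ → K → G} {θ : G →* GL D.Idx K} {y : ℕ → K → E}

theorem Setup.comm (L : Setup D π x θ y) {z : E} (hz : z ∈ π.ker) (g : E) : z * g = g * z :=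
  (Subgroup.mem_center_iff.1 (L.central hz) g).symm

theorem Setup.commTerms_lt (L : Setup D π x θ y) {r s : ℕ} (hr : r < D.nroots) (hs : s < D.nroots)
    {c : ℕ × ℤ × ℕ × ℕ} (hc : c ∈ D.commTerms r s) : c.1 < D.nroots :=
  (commTerms_spec L.wf hr hs hc).1

theorem Setup.map_word (L : Setup D π x θ y) {w : List (ℕ × K)} (hw : ∀ p ∈ w, p.1 < D.nroots) :
    π (wordF y w) = wordF x w := by
  rw [map_wordF]
  exact wordF_congr fun p hp => L.lift p.1 p.2 (hw p hp)

theorem Setup.map_commWord (L : Setup D π x θ y) {r s : ℕ} (hr : r < D.nroots) (hs : s < D.nroots) (t u : K) :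
    π (wordF y (D.commWord K r s t u)) = wordF x (D.commWord K r s t u) := by
  apply L.map_word
  intro p hp
  obtain ⟨c, hc, rfl⟩ := List.mem_map.1 hp
  exact L.commTerms_lt hr hs hc

/-- The kernel meets `⟨y r t : r ∈ S⟩` trivially. -/
theorem Setup.ker_WF (L : Setup D π x θ y) {f : ℕ → ℤ} (hf : Fun D f) {S : ℕ → Prop}
    (hpos : ∀ r < D.nroots, S r → 0 < f r) (hcl : Closed D S)
    (hrel : ∀ r s, r < D.nroots → s < D.nroots → s ≠ r → S r → S s → Rel2 D y r s)
    {z : E} (hz : z ∈ π.ker) (hzW : z ∈ WF D y S) : z = 1 := by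
  refine inj_WF (y := y) L.add (θ.comp π) ?_ L.wf L.coroot hf hpos hcl hrel hzW ?_
  · intro r t hr
    rw [MonoidHom.comp_apply, L.lift r t hr, L.theta r t hr]
  · rw [MonoidHom.comp_apply, MonoidHom.mem_ker.1 hz, map_one]

/-- Two elements of `⟨y r t : r ∈ S⟩` with the same image in `G` are equal. -/
theorem Setup.inj_WF (L : Setup D π x θ y) {f : ℕ → ℤ} (hf : Fun D f) {S : ℕ → Prop}
    (hpos : ∀ r < D.nroots, S r → 0 < f r) (hcl : Closed D S)
    (hrel : ∀ r s, r < D.nroots → s < D.nroots → s ≠ r → S r → S s → Rel2 D y r s)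
    {g g' : E} (hg : g ∈ WF D y S) (hg' : g' ∈ WF D y S) (h : π g = π g') : g = g' := by
  have h1 : g⁻¹ * g' ∈ π.ker := by rw [MonoidHom.mem_ker, map_mul, map_inv, h, inv_mul_cancel]
  have := L.ker_WF hf hpos hcl hrel h1 (mul_mem (inv_mem hg) hg')
  exact inv_mul_eq_one.1 this

/-- A commutator word lies in `⟨y r t : r ∈ S⟩`. -/
theorem Setup.word_mem (L : Setup D π x θ y) {S : ℕ → Prop} {r s : ℕ} (hr : r < D.nroots) (hs : s < D.nroots)
    (hS : ∀ c ∈ D.commTerms r s, S c.1) (t u : K) : wordF y (D.commWord K r s t u) ∈ WF D y S := by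
  apply wordF_mem
  intro p hp
  obtain ⟨c, hc, rfl⟩ := List.mem_map.1 hp
  exact mem_WF y (L.commTerms_lt hr hs hc) (hS c hc) _

theorem Setup.rel_mul (L : Setup D π x θ y) {r s : ℕ} (hr : r < D.nroots) (hs : s < D.nroots) (hsr : s ≠ r)
    (hsn : s ≠ D.neg r) (t u : K) :
    (y s u)⁻¹ * (y r t)⁻¹ * y s u * y r t * (wordF y (D.commWord K r s t u))⁻¹ ∈ π.ker := by
  rw [MonoidHom.mem_ker, map_mul, map_mul, map_mul, map_mul, map_inv, map_inv, map_inv, L.map_commWord hr hs,
    L.lift r t hr, L.lift s u hs]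
  have h := L.rel r s hr hs hsr hsn t u
  have h2 : (x s u)⁻¹ * (x r t)⁻¹ * x s u * x r t = wordF x (D.commWord K r s t u) := by
    calc (x s u)⁻¹ * (x r t)⁻¹ * x s u * x r t = (x s u)⁻¹ * ((x r t)⁻¹ * x s u * x r t) := by group
      _ = wordF x (D.commWord K r s t u) := by rw [h]; group
  rw [h2, mul_inv_cancel]

/-- The main step. -/
theorem Setup.rel2_step (L : Setup D π x θ y) {f : ℕ → ℤ} (hf : Fun D f) {S : ℕ → Prop}
    (hpos : ∀ r < D.nroots, S r → 0 < f r) (hcl : Closed D S)
    (hrel : ∀ r s, r < D.nroots → s < D.nroots → s ≠ r → S r → S s → Rel2 D y r s)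
    {r s : ℕ} (hr : r < D.nroots) (hs : s < D.nroots) (hsr : s ≠ r) (hsn : s ≠ D.neg r)
    (hS1 : ∀ c ∈ D.commTerms r s, S c.1)
    (hS2 : ∀ q < D.nroots, S q → ∀ c ∈ D.commTerms s q, S c.1)
    (hrelS : ∀ q < D.nroots, S q → Rel2 D y s q)
    (hgood : TorGood D y r s ∨ PGood K π) : Rel2 D y r s := by
  intro t
  set w : K → E := fun u => wordF y (D.commWord K r s t u) with hw
  set ψ : K → E := fun u => (y s u)⁻¹ * (y r t)⁻¹ * y s u * y r t * (w u)⁻¹ with hψ
  have hwW : ∀ u, w u ∈ WF D y S := fun u => L.word_mem hr hs hS1 t u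
  have hψk : ∀ u, ψ u ∈ π.ker := fun u => L.rel_mul hr hs hsr hsn t u
  have hc : ∀ u, (y r t)⁻¹ * y s u * y r t = ψ u * (y s u * w u) := by
    intro u
    rw [← mul_assoc, L.comm (hψk u) (y s u)]
    simp only [hψ]; group
  -- `y s u` normalises `W`
  have hnorm : ∀ u, ∀ g ∈ WF D y S, (y s u)⁻¹ * g * y s u ∈ WF D y S := by
    intro u g hg
    unfold WF at hg
    induction hg using Subgroup.closure_induction with
    | one => rw [mul_one, inv_mul_cancel]; exact one_mem _
    | mem g hg =>
      obtain ⟨q, v, hq, hSq, rfl⟩ := hg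
      rw [hrelS q hq hSq u v]
      exact mul_mem (mem_WF y hq hSq v) (L.word_mem hs hq (hS2 q hq hSq) u v)
    | mul a b _ _ iha ihb =>
      have : (y s u)⁻¹ * (a * b) * y s u = ((y s u)⁻¹ * a * y s u) * ((y s u)⁻¹ * b * y s u) := by group
      rw [this]; exact mul_mem iha ihb
    | inv a _ iha =>
      have : (y s u)⁻¹ * a⁻¹ * y s u = ((y s u)⁻¹ * a * y s u)⁻¹ := by group
      rw [this]; exact inv_mem iha
  have hker : ∀ z ∈ π.ker, z ∈ WF D y S → z = 1 := fun z hz hzW => L.ker_WF hf hpos hcl hrel hz hzW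
  -- additivity of `ψ`
  have hadd : ∀ u u', ψ (u + u') = ψ u * ψ u' := by
    intro u u'
    have h1 : (y r t)⁻¹ * y s (u + u') * y r t =
        ((y r t)⁻¹ * y s u * y r t) * ((y r t)⁻¹ * y s u' * y r t) := by
      rw [← L.add s hs]; group
    rw [hc, hc, hc, ← L.add s hs] at h1
    -- ψ(u+u') y s u y s u' w(u+u') = ψ u y s u w u ψ u' y s u' w u'
    have h2 : ψ (u + u') * (y s u * y s u' * w (u + u')) =
        (ψ u * ψ u') * (y s u * y s u' * (((y s u')⁻¹ * w u * y s u') * w u')) := by
      rw [h1]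
      have e : ψ u * (y s u * w u) * (ψ u' * (y s u' * w u')) = ψ u * ((y s u * w u) * ψ u') * (y s u' * w u') := by
        group
      rw [e, ← L.comm (hψk u') (y s u * w u)]
      group
    set z := (ψ u * ψ u')⁻¹ * ψ (u + u') with hz
    have hzk : z ∈ π.ker := mul_mem (inv_mem (mul_mem (hψk u) (hψk u'))) (hψk _)
    have h3 : z = (((y s u')⁻¹ * w u * y s u') * w u') * (w (u + u'))⁻¹ := by
      have h4 : z * (y s u * y s u' * w (u + u')) = y s u * y s u' * (((y s u')⁻¹ * w u * y s u') * w u') := by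
        rw [hz, mul_assoc, h2, inv_mul_cancel_left]
      rw [← mul_assoc, L.comm hzk (y s u * y s u')] at h4
      rw [mul_assoc (y s u * y s u')] at h4
      have h5 := mul_left_cancel h4
      rw [← h5]; group
    have h6 : z = 1 := by
      apply hker z hzk
      rw [h3]
      exact mul_mem (mul_mem (hnorm u' _ (hwW u)) (hwW u')) (inv_mem (hwW _))
    rw [hz, inv_mul_eq_one] at h6
    exact h6.symm
  have hψ0 : ψ 0 = 1 := by
    have := hadd 0 0
    rw [add_zero] at this
    exact left_eq_mul.1 this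
  have hfin : ∀ u, ψ u = 1 := by
    rcases hgood with ⟨h, a, ha, har, has⟩ | ⟨p, hp, htor⟩
    · have hinv : ∀ u, ψ (a s * u) = ψ u := by
        intro u
        have h1 : h * ((y r t)⁻¹ * y s u * y r t) * h⁻¹ = (y r t)⁻¹ * y s (a s * u) * y r t := by
          have e1 := ha r hr t
          rw [har, one_mul] at e1
          have e2 := ha s hs u
          calc h * ((y r t)⁻¹ * y s u * y r t) * h⁻¹ =
              (h * y r t * h⁻¹)⁻¹ * (h * y s u * h⁻¹) * (h * y r t * h⁻¹) := by group
            _ = _ := by rw [e1, e2]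
        have h2 : h * (ψ u * (y s u * w u)) * h⁻¹ = ψ u * (y s (a s * u) * (h * w u * h⁻¹)) := by
          calc h * (ψ u * (y s u * w u)) * h⁻¹ = (h * ψ u) * (y s u * w u) * h⁻¹ := by group
            _ = (ψ u * h) * (y s u * w u) * h⁻¹ := by rw [L.comm (hψk u) h]
            _ = ψ u * ((h * y s u * h⁻¹) * (h * w u * h⁻¹)) := by group
            _ = _ := by rw [ha s hs u]
        rw [hc, hc, h2] at h1
        have hwmem : h * w u * h⁻¹ ∈ WF D y S := by
          simp only [hw]
          rw [conj_wordF]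
          apply wordF_mem
          intro p hp
          obtain ⟨c, hcc, rfl⟩ := List.mem_map.1 hp
          show h * y c.1 _ * h⁻¹ ∈ _
          rw [ha c.1 (L.commTerms_lt hr hs hcc)]
          exact mem_WF y (L.commTerms_lt hr hs hcc) (hS1 c hcc) _
        set z := (ψ u)⁻¹ * ψ (a s * u) with hz
        have hzk : z ∈ π.ker := mul_mem (inv_mem (hψk u)) (hψk _)
        have h3 : z = (h * w u * h⁻¹) * (w (a s * u))⁻¹ := by
          have h4 : z * (y s (a s * u) * w (a s * u)) = y s (a s * u) * (h * w u * h⁻¹) := by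
            rw [hz, mul_assoc, ← h1, inv_mul_cancel_left]
          rw [← mul_assoc, L.comm hzk (y s (a s * u)), mul_assoc] at h4
          have h5 := mul_left_cancel h4
          rw [← h5]; group
        have h6 : z = 1 := by
          apply hker z hzk
          rw [h3]
          exact mul_mem hwmem (inv_mem (hwW _))
        rw [hz, inv_mul_eq_one] at h6
        exact h6.symm
      intro u
      have h1 : ψ ((a s - 1) * (u / (a s - 1))) * ψ (u / (a s - 1)) = ψ (a s * (u / (a s - 1))) := by
        rw [← hadd]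
        congr 1
        ring
      rw [hinv, mul_div_cancel₀ _ (sub_ne_zero.2 has)] at h1
      exact mul_eq_right.1 h1
    · intro u
      apply htor _ (hψk u)
      have : ∀ n : ℕ, ψ ((n : K) * u) = ψ u ^ n := by
        intro n
        induction n with
        | zero => rw [Nat.cast_zero, zero_mul, hψ0, pow_zero]
        | succ n ih => rw [Nat.cast_succ, add_mul, one_mul, hadd, ih, pow_succ]
      rw [← this p, hp, zero_mul, hψ0]
  intro u
  rw [hc u, hfin u, one_mul]

/-- Symmetry of the commutator relation. -/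
theorem Setup.rel2_symm (L : Setup D π x θ y) {f : ℕ → ℤ} (hf : Fun D f) {S : ℕ → Prop}
    (hpos : ∀ r < D.nroots, S r → 0 < f r) (hcl : Closed D S)
    (hrel : ∀ r s, r < D.nroots → s < D.nroots → s ≠ r → S r → S s → Rel2 D y r s)
    {r s : ℕ} (hr : r < D.nroots) (hs : s < D.nroots) (hsr : s ≠ r) (hsn : s ≠ D.neg r)
    (hS1 : ∀ c ∈ D.commTerms r s, S c.1) (hS1' : ∀ c ∈ D.commTerms s r, S c.1)
    (h : Rel2 D y s r) : Rel2 D y r s := by
  intro t u
  have h1 := h u t
  -- (y s u)⁻¹ y r t y s u = y r t w'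
  set w' := wordF y (D.commWord K s r u t) with hw'
  have h2 : (y r t)⁻¹ * y s u * y r t = y s u * w'⁻¹ := by
    have e : w' = (y r t)⁻¹ * (y s u)⁻¹ * y r t * y s u := by
      calc w' = (y r t)⁻¹ * (y r t * w') := by group
        _ = _ := by rw [← h1]; group
    rw [e]; group
  have h3 : w'⁻¹ = wordF y (D.commWord K r s t u) := by
    apply L.inj_WF hf hpos hcl hrel (inv_mem (L.word_mem hs hr hS1' u t)) (L.word_mem hr hs hS1 t u)
    have h4 := congrArg π h2
    rw [map_mul, map_mul, map_inv, map_mul, L.lift r t hr, L.lift s u hs, L.rel r s hr hs hsr hsn t u] at h4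
    rw [L.map_commWord hr hs]
    exact (mul_left_cancel h4).symm
  rw [h2, h3]

end Cfsg.Agent.H134.LiftStep
end

-- part: H134/Lift
section
/-!
# Lifts of root elements to a central extension of the group presented by (R1), (R2)

`π : E →* D.SteinbergCover K` surjective with central kernel, `D.SteinbergCover K` perfect. Torus elements give
canonical lifts `yy s u` of the root elements; they are equivariant under all torus elements, additive when the
preimage of the root subgroup is abelian, and satisfy (R2) when there are enough torus elements.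
-/

set_option autoImplicit false

namespace Cfsg.Agent.H134.Lift

open Cfsg.Lie Cfsg.Agent.ChevalleyStructure Cfsg.Agent.ChevalleyStructure.Elts
  Cfsg.Agent.ChevalleyStructure.St.Functional
  Cfsg.Agent.H133.ScRels Cfsg.Agent.H133.ScTheta Cfsg.Agent.H134.FamInj Cfsg.Agent.H134.LiftStep
open Cfsg.Agent.ChevalleyStructure.St.Conj (lin lin_def lin_comb lin_neg Tab)

open scoped commutatorElement

universe u v

/-! ### General facts on central extensions -/

section general

variable {E : Type v} [Group E] {G : Type u} [Group G] {π : E →* G}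

theorem ker_comm (hc : π.ker ≤ Subgroup.center E) {z : E} (hz : z ∈ π.ker) (g : E) : z * g = g * z :=
  (Subgroup.mem_center_iff.1 (hc hz) g).symm

/-- The commutator only depends on the images. -/
theorem comm_congr (hc : π.ker ≤ Subgroup.center E) {p p' q q' : E} (hp : π p = π p') (hq : π q = π q') :
    ⁅p, q⁆ = ⁅p', q'⁆ := by
  have h1 : p * p'⁻¹ ∈ π.ker := by rw [MonoidHom.mem_ker, map_mul, map_inv, hp, mul_inv_cancel]
  have h2 : q * q'⁻¹ ∈ π.ker := by rw [MonoidHom.mem_ker, map_mul, map_inv, hq, mul_inv_cancel]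
  obtain ⟨z, hz, rfl⟩ : ∃ z ∈ π.ker, p = z * p' := ⟨_, h1, by group⟩
  obtain ⟨w, hw, rfl⟩ : ∃ w ∈ π.ker, q = w * q' := ⟨_, h2, by group⟩
  rw [commutatorElement_def, commutatorElement_def, mul_inv_rev, mul_inv_rev]
  have e1 : z * p' * (w * q') * (p'⁻¹ * z⁻¹) * (q'⁻¹ * w⁻¹) = z * (p' * w) * q' * (p'⁻¹ * (z⁻¹ * q'⁻¹)) * w⁻¹ := by
    group
  rw [e1, ← ker_comm hc hw p', ker_comm hc (inv_mem hz) q'⁻¹]
  have e2 : z * (w * p') * q' * (p'⁻¹ * (q'⁻¹ * z⁻¹)) * w⁻¹ = (z * w) * (p' * q' * p'⁻¹ * q'⁻¹) * (z⁻¹ * w⁻¹) := by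
    group
  rw [e2, ker_comm hc (mul_mem hz hw)]
  have e3 : z * w * (z⁻¹ * w⁻¹) = 1 := by
    rw [ker_comm hc hz w]; group
  rw [mul_assoc, e3, mul_one]

theorem exists_mul_of_perfect (hsurj : Function.Surjective π) (hperf : commutator G = ⊤) (g : E) :
    ∃ k ∈ commutator E, ∃ z ∈ π.ker, g = k * z := by
  have h1 : (commutator E).map π = ⊤ := by
    rw [commutator_def, Subgroup.map_commutator, ← MonoidHom.range_eq_map, MonoidHom.range_eq_top.2 hsurj, ← commutator_def, hperf]
  obtain ⟨k, hk, hkg⟩ : π g ∈ (commutator E).map π := by rw [h1]; exact Subgroup.mem_top _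
  exact ⟨k, hk, k⁻¹ * g, by rw [MonoidHom.mem_ker, map_mul, map_inv, hkg, inv_mul_cancel], by group⟩

/-- Elements over the centre are central (perfect base). -/
theorem central_of_map (hsurj : Function.Surjective π) (hc : π.ker ≤ Subgroup.center E) (hperf : commutator G = ⊤)
    {ζ : E} (hζ : π ζ ∈ Subgroup.center G) : ζ ∈ Subgroup.center E := by
  have hk : ∀ g, ⁅ζ, g⁆ ∈ π.ker := by
    intro g
    rw [MonoidHom.mem_ker, map_commutatorElement, commutatorElement_eq_one_iff_mul_comm]
    exact (Subgroup.mem_center_iff.1 hζ (π g)).symm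
  have hmul : ∀ g h : E, ⁅ζ, g * h⁆ = ⁅ζ, g⁆ * ⁅ζ, h⁆ := by
    intro g h
    have e : ⁅ζ, g * h⁆ = ⁅ζ, g⁆ * (g * ⁅ζ, h⁆ * g⁻¹) := by
      simp only [commutatorElement_def]; group
    rw [e, ← ker_comm hc (hk h) g, mul_inv_cancel_right]
  have hone : ⁅ζ, (1 : E)⁆ = 1 := by simp [commutatorElement_def]
  let φ : E →* π.ker :=
    { toFun := fun g => ⟨⁅ζ, g⁆, hk g⟩
      map_one' := Subtype.ext hone
      map_mul' := fun g h => Subtype.ext (hmul g h) }
  have hφ : commutator E ≤ φ.ker := by
    rw [commutator_def, Subgroup.commutator_le]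
    intro g _ h _
    rw [MonoidHom.mem_ker, map_commutatorElement, commutatorElement_eq_one_iff_mul_comm]
    exact Subtype.ext (ker_comm hc (φ g).2 (φ h : E))
  rw [Subgroup.mem_center_iff]
  intro g
  obtain ⟨k, hk', z, hz, rfl⟩ := exists_mul_of_perfect hsurj hperf g
  have h1 : ⁅ζ, k⁆ = 1 := congrArg Subtype.val (MonoidHom.mem_ker.1 (hφ hk'))
  have h2 : ζ * k = k * ζ := commutatorElement_eq_one_iff_mul_comm.1 h1
  rw [mul_assoc, ker_comm hc hz ζ, ← mul_assoc, ← h2, mul_assoc]

/-- Bilinearity of the commutator of lifts of commuting elements. -/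
theorem comm_mul_right (hc : π.ker ≤ Subgroup.center E) {p q q' : E} (h : ⁅p, q'⁆ ∈ π.ker) :
    ⁅p, q * q'⁆ = ⁅p, q⁆ * ⁅p, q'⁆ := by
  have e : ⁅p, q * q'⁆ = ⁅p, q⁆ * (q * ⁅p, q'⁆ * q⁻¹) := by
    simp only [commutatorElement_def]; group
  rw [e, ← ker_comm hc h q, mul_inv_cancel_right]

theorem comm_mul_left (hc : π.ker ≤ Subgroup.center E) {p p' q : E} (h : ⁅p', q⁆ ∈ π.ker) :
    ⁅p * p', q⁆ = ⁅p, q⁆ * ⁅p', q⁆ := by
  have e : ⁅p * p', q⁆ = (p * ⁅p', q⁆ * p⁻¹) * ⁅p, q⁆ := by
    simp only [commutatorElement_def]; group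
  rw [e, ← ker_comm hc h p, mul_inv_cancel_right, ker_comm hc h]

end general

/-! ### Torus elements -/

section torus

variable {K : Type u} [Field K] {D : ChevalleyDatum}

/-- `h` acts on the root elements of `D.SteinbergCover K` by the scalars `a`. -/
structure Act (h : D.SteinbergCover K) (a : ℕ → K) : Prop where
  ne : ∀ s < D.nroots, a s ≠ 0
  act : ∀ s < D.nroots, ∀ u : K, h * D.scGen K s u * h⁻¹ = D.scGen K s (a s * u)

theorem Act.mul {h h' : D.SteinbergCover K} {a a' : ℕ → K} (H : Act h a) (H' : Act h' a') :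
    Act (h * h') (fun s => a s * a' s) where
  ne s hs := mul_ne_zero (H.ne s hs) (H'.ne s hs)
  act s hs u := by
    have e : h * h' * D.scGen K s u * (h * h')⁻¹ = h * (h' * D.scGen K s u * h'⁻¹) * h⁻¹ := by group
    rw [e, H'.act s hs, H.act s hs, mul_assoc]

theorem Act.inv {h : D.SteinbergCover K} {a : ℕ → K} (H : Act h a) : Act h⁻¹ (fun s => (a s)⁻¹) where
  ne s hs := inv_ne_zero (H.ne s hs)
  act s hs u := by
    have e := H.act s hs ((a s)⁻¹ * u)
    rw [mul_inv_cancel_left₀ (H.ne s hs)] at e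
    rw [← e]; group

theorem Act.one : Act (1 : D.SteinbergCover K) (fun _ => 1) where
  ne _ _ := one_ne_zero
  act s _ u := by rw [one_mul, one_mul, inv_one, mul_one]

/-- Elements acting trivially are central. -/
theorem Act.central {h : D.SteinbergCover K} {a : ℕ → K} (H : Act h a) (ha : ∀ s < D.nroots, a s = 1) :
    h ∈ Subgroup.center (D.SteinbergCover K) := by
  rw [Subgroup.mem_center_iff]
  have hcent : ∀ x : D.SteinbergCover K, x ∈ Subgroup.centralizer {h} := by
    apply mem_of_gens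
    intro s hs t
    rw [Subgroup.mem_centralizer_singleton_iff]
    have h1 := H.act s hs t
    rw [ha s hs, one_mul, mul_inv_eq_iff_eq_mul] at h1
    exact h1.symm
  intro x
  exact Subgroup.mem_centralizer_singleton_iff.1 (hcent x)

/-- Torus elements commute modulo the centre. -/
theorem Act.comm_central {h h' : D.SteinbergCover K} {a a' : ℕ → K} (H : Act h a) (H' : Act h' a') :
    (h' * h * h'⁻¹) * h⁻¹ ∈ Subgroup.center (D.SteinbergCover K) := by
  refine (((H'.mul H).mul H'.inv).mul H.inv).central fun s hs => ?_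
  have h1 := H.ne s hs
  have h2 := H'.ne s hs
  field_simp

/-- The torus elements attached to functionals. -/
theorem exists_act (hD : InList D) (m : ℕ → ℤ) {c : K} (hc : c ≠ 0) :
    ∃ h : D.SteinbergCover K, Act h (fun s => c ^ lin D m s) := by
  have key : ∀ n ≤ D.rank, ∃ h : D.SteinbergCover K,
      Act h (fun s => c ^ (∑ i ∈ Finset.range n, m i * D.cartan i s)) := by
    intro n
    induction n with
    | zero =>
      intro _
      refine ⟨1, ?_⟩
      have : (fun s => c ^ (∑ i ∈ Finset.range 0, m i * D.cartan i s)) = fun _ => (1 : K) := by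
        funext s; simp
      rw [this]
      exact Act.one
    | succ n ih =>
      intro hn
      obtain ⟨h, H⟩ := ih (by omega)
      have H2 : Act (mk D K (D.stH (D.simple n) (c ^ m n))) (fun s => (c ^ m n) ^ (D.cartan n s)) :=
        ⟨fun s _ => zpow_ne_zero _ (zpow_ne_zero _ hc), fun s hs u => by
          rw [Cfsg.Agent.H133.ScCentral.h_conj hD n s (by omega) hs _ (zpow_ne_zero _ hc), mul_inv_cancel_right]⟩
      refine ⟨h * mk D K (D.stH (D.simple n) (c ^ m n)), ?_⟩
      · have := H.mul H2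
        have e : (fun s => c ^ (∑ i ∈ Finset.range (n + 1), m i * D.cartan i s)) =
            fun s => c ^ (∑ i ∈ Finset.range n, m i * D.cartan i s) * (c ^ m n) ^ (D.cartan n s) := by
          funext s
          rw [Finset.sum_range_succ, zpow_add₀ hc, zpow_mul]
        rw [e]
        exact this
  exact key D.rank le_rfl

end torus

/-! ### The canonical lifts -/

section lifts

variable {K : Type u} [Field K] {D : ChevalleyDatum} {E : Type v} [Group E]
  {π : E →* D.SteinbergCover K} (hsurj : Function.Surjective π) (hc : π.ker ≤ Subgroup.center E)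
  (hperf : commutator (D.SteinbergCover K) = ⊤)

/-- The preimage of the root subgroup of `s` is abelian. -/
def Ab (D : ChevalleyDatum) (π : E →* D.SteinbergCover K) (s : ℕ) : Prop :=
  ∀ p q : E, ∀ t u : K, π p = D.scGen K s t → π q = D.scGen K s u → p * q = q * p

include hsurj hc in
/-- Lifts of commuting root elements commute, if there is a torus element fixing one and not the other. -/
theorem commute_of_act {r s : ℕ} (hr : r < D.nroots) (hs : s < D.nroots)
    (hcomm : ∀ t u : K, D.scGen K r t * D.scGen K s u = D.scGen K s u * D.scGen K r t)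
    {h : D.SteinbergCover K} {a : ℕ → K} (H : Act h a) (har : a r = 1) (has : a s ≠ 1)
    {p q : E} {t u : K} (hp : π p = D.scGen K r t) (hq : π q = D.scGen K s u) : p * q = q * p := by
  -- the commutator as a function of the parameters
  obtain ⟨l, hl⟩ := hsurj.hasRightInverse
  have hk : ∀ v, ⁅p, l (D.scGen K s v)⁆ ∈ π.ker := by
    intro v
    rw [MonoidHom.mem_ker, map_commutatorElement, hp, hl, commutatorElement_eq_one_iff_mul_comm]
    exact hcomm t v
  have hadd : ∀ v w, ⁅p, l (D.scGen K s (v + w))⁆ = ⁅p, l (D.scGen K s v)⁆ * ⁅p, l (D.scGen K s w)⁆ := by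
    intro v w
    rw [← comm_mul_right hc (hk w)]
    apply comm_congr hc rfl
    rw [map_mul, hl, hl, hl, scGen_add']
  have hinv : ∀ v, ⁅p, l (D.scGen K s (a s * v))⁆ = ⁅p, l (D.scGen K s v)⁆ := by
    intro v
    have h1 : l h * ⁅p, l (D.scGen K s v)⁆ * (l h)⁻¹ = ⁅p, l (D.scGen K s v)⁆ := by
      rw [← ker_comm hc (hk v) (l h), mul_inv_cancel_right]
    rw [← h1]
    have h2 : l h * ⁅p, l (D.scGen K s v)⁆ * (l h)⁻¹ = ⁅l h * p * (l h)⁻¹, l h * l (D.scGen K s v) * (l h)⁻¹⁆ := by
      simp only [commutatorElement_def]; group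
    rw [h2]
    apply comm_congr hc
    · rw [map_mul, map_mul, map_inv, hl, hp, H.act r hr, har, one_mul]
    · rw [map_mul, map_mul, map_inv, hl, hl, hl, H.act s hs]
  have h3 : ⁅p, l (D.scGen K s u)⁆ = 1 := by
    have h4 := hadd ((a s - 1) * (u / (a s - 1))) (u / (a s - 1))
    have h5 : (a s - 1) * (u / (a s - 1)) + u / (a s - 1) = a s * (u / (a s - 1)) := by ring
    rw [h5, hinv, mul_div_cancel₀ _ (sub_ne_zero.2 has)] at h4
    exact right_eq_mul.1 h4
  have h6 : ⁅p, q⁆ = 1 := by
    rw [← h3]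
    exact comm_congr hc rfl (by rw [hq, hl])
  exact commutatorElement_eq_one_iff_mul_comm.1 h6

include hsurj hc in
/-- The preimage of a root subgroup is abelian: scalars `c`, `1 - c`. -/
theorem ab_of_scalars {s : ℕ} (hs : s < D.nroots)
    (hact : ∀ c : K, c ≠ 0 → ∃ (h : D.SteinbergCover K) (a : ℕ → K), Act h a ∧ a s = c)
    (hc1 : ∃ c : K, c ≠ 0 ∧ 1 - c ≠ 0 ∧ c * (1 - c) ≠ 1) : Ab D π s := by
  intro p q t u hp hq
  obtain ⟨l, hl⟩ := hsurj.hasRightInverse
  set F : K → K → E := fun v w => ⁅l (D.scGen K s v), l (D.scGen K s w)⁆ with hF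
  have hk : ∀ v w, F v w ∈ π.ker := by
    intro v w
    simp only [hF]
    rw [MonoidHom.mem_ker, map_commutatorElement, hl, hl, commutatorElement_eq_one_iff_mul_comm, scGen_add',
      scGen_add', add_comm]
  have haddr : ∀ v w w', F v (w + w') = F v w * F v w' := by
    intro v w w'
    have := comm_mul_right hc (p := l (D.scGen K s v)) (q := l (D.scGen K s w)) (hk v w')
    simp only [hF]
    rw [← this]
    apply comm_congr hc rfl
    rw [map_mul, hl, hl, hl, scGen_add']
  have haddl : ∀ v v' w, F (v + v') w = F v w * F v' w := by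
    intro v v' w
    have := comm_mul_left hc (p := l (D.scGen K s v)) (q := l (D.scGen K s w)) (hk v' w)
    simp only [hF]
    rw [← this]
    refine comm_congr hc ?_ rfl
    rw [map_mul, hl, hl, hl, scGen_add']
  have hinv : ∀ c, c ≠ 0 → ∀ v w, F (c * v) (c * w) = F v w := by
    intro c hc0 v w
    obtain ⟨h, a, H, has⟩ := hact c hc0
    have h1 : l h * F v w * (l h)⁻¹ = F v w := by
      rw [← ker_comm hc (hk v w) (l h), mul_inv_cancel_right]
    rw [← h1]
    have h2 : l h * F v w * (l h)⁻¹ = ⁅l h * l (D.scGen K s v) * (l h)⁻¹, l h * l (D.scGen K s w) * (l h)⁻¹⁆ := by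
      simp only [hF, commutatorElement_def]; group
    rw [h2]
    apply comm_congr hc
    · rw [map_mul, map_mul, map_inv, hl, hl, hl, H.act s hs, has]
    · rw [map_mul, map_mul, map_inv, hl, hl, hl, H.act s hs, has]
  obtain ⟨c, hc0, hc1, hc2⟩ := hc1
  have h1 : ∀ v w, F v w = F v ((c⁻¹ + (1 - c)⁻¹) * w) := by
    intro v w
    have e1 : F v w = F (c * v) w * F ((1 - c) * v) w := by
      rw [← haddl]; congr 1; ring
    have e2 : F (c * v) w = F v (c⁻¹ * w) := by
      rw [← hinv c hc0 v (c⁻¹ * w), mul_inv_cancel_left₀ hc0]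
    have e3 : F ((1 - c) * v) w = F v ((1 - c)⁻¹ * w) := by
      rw [← hinv (1 - c) hc1 v ((1 - c)⁻¹ * w), mul_inv_cancel_left₀ hc1]
    rw [e1, e2, e3, ← haddr]
    congr 1; ring
  have h2 : ∀ v w, F v w = 1 := by
    intro v w
    have hne : c⁻¹ + (1 - c)⁻¹ - 1 ≠ 0 := by
      intro h
      apply hc2
      field_simp at h
      linear_combination -h
    have e := h1 v (w / (c⁻¹ + (1 - c)⁻¹ - 1))
    have e2 : (c⁻¹ + (1 - c)⁻¹) * (w / (c⁻¹ + (1 - c)⁻¹ - 1)) = w + w / (c⁻¹ + (1 - c)⁻¹ - 1) := by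
      have : (c⁻¹ + (1 - c)⁻¹) * (w / (c⁻¹ + (1 - c)⁻¹ - 1)) =
          (c⁻¹ + (1 - c)⁻¹ - 1) * (w / (c⁻¹ + (1 - c)⁻¹ - 1)) + w / (c⁻¹ + (1 - c)⁻¹ - 1) := by ring
      rw [this, mul_div_cancel₀ _ hne]
    rw [e2, haddr] at e
    exact right_eq_mul.1 e
  have h6 : ⁅p, q⁆ = 1 := by
    rw [← h2 t u]
    exact comm_congr hc (by rw [hp, hl]) (by rw [hq, hl])
  exact commutatorElement_eq_one_iff_mul_comm.1 h6

include hsurj hc in
/-- The preimage of a root subgroup is abelian: generation by other root subgroups commuting with it. -/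
theorem ab_of_closure {s : ℕ} {Q : Set ℕ}
    (hgen : ∀ u : K, D.scGen K s u ∈ Subgroup.closure {x | ∃ q ∈ Q, ∃ v : K, x = D.scGen K q v})
    (hQ : ∀ q ∈ Q, ∀ p p' : E, ∀ t v : K, π p = D.scGen K s t → π p' = D.scGen K q v → p * p' = p' * p) :
    Ab D π s := by
  intro p q t u hp hq
  have h1 : ∀ x ∈ Subgroup.closure {x | ∃ q ∈ Q, ∃ v : K, x = D.scGen K q v}, ∀ q : E, π q = x → p * q = q * p := by
    intro x hx
    induction hx using Subgroup.closure_induction with
    | one =>
      intro q hq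
      exact (ker_comm hc (MonoidHom.mem_ker.2 hq) p).symm
    | mem x hx =>
      obtain ⟨q', hq', v, rfl⟩ := hx
      intro q hq
      exact hQ q' hq' p q t v hp hq
    | mul x y _ _ ihx ihy =>
      intro q hq
      obtain ⟨q₁, hq₁⟩ := hsurj x
      have h2 := ihx q₁ hq₁
      have h3 := ihy (q₁⁻¹ * q) (by rw [map_mul, map_inv, hq₁, hq, inv_mul_cancel_left])
      calc p * q = (p * q₁) * (q₁⁻¹ * q) := by group
        _ = q₁ * (p * (q₁⁻¹ * q)) := by rw [h2, mul_assoc]
        _ = q * p := by rw [h3]; group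
    | inv x _ ih =>
      intro q hq
      have h2 := ih q⁻¹ (by rw [map_inv, hq, inv_inv])
      calc p * q = q * (q⁻¹ * p) * q := by group
        _ = q * p := by rw [← h2]; group
  exact h1 _ (hgen u) q hq

/-- The canonical lifts. -/
noncomputable def yy (hsurj : Function.Surjective π) (H : ℕ → D.SteinbergCover K) (A : ℕ → ℕ → K) (s : ℕ) (u : K) : E :=
  ⁅Function.surjInv hsurj (H s), Function.surjInv hsurj (D.scGen K s (u / (A s s - 1)))⁆

variable (H : ℕ → D.SteinbergCover K) (A : ℕ → ℕ → K) (hA : ∀ s < D.nroots, Act (H s) (A s) ∧ A s s ≠ 1)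

include hA in
theorem map_yy {s : ℕ} (hs : s < D.nroots) (u : K) : π (yy hsurj H A s u) = D.scGen K s u := by
  unfold yy
  rw [map_commutatorElement, Function.surjInv_eq hsurj, Function.surjInv_eq hsurj, commutatorElement_def,
    (hA s hs).1.act s hs, scGen_inv, scGen_add']
  congr 1
  have h := sub_ne_zero.2 (hA s hs).2
  field_simp
  ring

include hA hc hperf in
/-- Equivariance under torus elements. -/
theorem conj_yy {s : ℕ} (hs : s < D.nroots) (u : K) {g : E} {b : ℕ → K} (hg : Act (π g) b) :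
    g * yy hsurj H A s u * g⁻¹ = yy hsurj H A s (b s * u) := by
  unfold yy
  have h2 : ∀ p q : E, g * ⁅p, q⁆ * g⁻¹ = ⁅g * p * g⁻¹, g * q * g⁻¹⁆ := by
    intro p q
    simp only [commutatorElement_def]; group
  rw [h2]
  have hπ : ∀ δ, π (Function.surjInv hsurj δ) = δ := Function.surjInv_eq hsurj
  set p := Function.surjInv hsurj (H s) with hp
  set ζ := g * p * g⁻¹ * p⁻¹ with hζ
  have hζc : ζ ∈ Subgroup.center E := by
    apply central_of_map hsurj hc hperf
    rw [hζ, map_mul, map_mul, map_mul, map_inv, map_inv, hp, hπ]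
    exact (hA s hs).1.comm_central hg
  have h3 : g * p * g⁻¹ = ζ * p := by rw [hζ]; group
  rw [h3]
  have h4 : ∀ q : E, ⁅ζ * p, q⁆ = ⁅p, q⁆ := by
    intro q
    have hz := Subgroup.mem_center_iff.1 hζc
    rw [commutatorElement_def, commutatorElement_def, mul_inv_rev]
    have : ζ * p * q * (p⁻¹ * ζ⁻¹) * q⁻¹ = ζ * (p * q * p⁻¹) * ζ⁻¹ * q⁻¹ := by group
    rw [this, ← hz]; group
  rw [h4]
  apply comm_congr hc rfl
  rw [map_mul, map_mul, map_inv, hπ, hπ, hg.act s hs, mul_div_assoc]

include hA hc in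
/-- Additivity. -/
theorem yy_add {s : ℕ} (hs : s < D.nroots) (hab : Ab D π s) (t u : K) :
    yy hsurj H A s t * yy hsurj H A s u = yy hsurj H A s (t + u) := by
  have hπ : ∀ δ, π (Function.surjInv hsurj δ) = δ := Function.surjInv_eq hsurj
  have hmap := map_yy hsurj H A hA hs u
  unfold yy at hmap ⊢
  set p := Function.surjInv hsurj (H s) with hp
  set q := Function.surjInv hsurj (D.scGen K s (t / (A s s - 1))) with hq
  set q' := Function.surjInv hsurj (D.scGen K s (u / (A s s - 1))) with hq'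
  have h1 : q * ⁅p, q'⁆ = ⁅p, q'⁆ * q := hab q ⁅p, q'⁆ _ _ (hπ _) hmap
  have h2 : ⁅p, q * q'⁆ = ⁅p, q⁆ * ⁅p, q'⁆ := by
    have e : ⁅p, q * q'⁆ = ⁅p, q⁆ * (q * ⁅p, q'⁆ * q⁻¹) := by
      simp only [commutatorElement_def]; group
    rw [e, h1, mul_inv_cancel_right]
  rw [← h2]
  apply comm_congr hc rfl
  rw [map_mul, hπ, hπ, hπ, scGen_add']
  congr 1
  ring

end lifts

end Cfsg.Agent.H134.Lift
end

-- part: H134/LiftMain
section
/-!
# Splitting of central extensions of the group presented by (R1), (R2)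

`exists_section`: a family of lifts of the root elements that is additive and has "good" pairs gives a splitting.
`exists_section_of_act`: enough torus elements give a splitting. `lift_unique`: the universal lifting property.
-/

set_option autoImplicit false

namespace Cfsg.Agent.H134.LiftMain

open Cfsg.Lie Cfsg.Agent.ChevalleyStructure Cfsg.Agent.ChevalleyStructure.Elts
  Cfsg.Agent.ChevalleyStructure.St.Functional
  Cfsg.Agent.H133.ScRels Cfsg.Agent.H133.ScTheta Cfsg.Agent.H134.FamInj Cfsg.Agent.H134.LiftStep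
  Cfsg.Agent.H134.Lift
open Cfsg.Agent.ChevalleyStructure.St.Conj (lin lin_def lin_comb lin_neg Tab)

universe u v w

variable {K : Type u} [Field K] {D : ChevalleyDatum} {E : Type v} [Group E]
  {π : E →* D.SteinbergCover K} {y : ℕ → K → E}

theorem wordF_scGen (w : List (ℕ × K)) : wordF (D.scGen K) w = word D K w := rfl

/-- The set-up for `D.SteinbergCover K`. -/
theorem setup (hD : InList D) (hc : π.ker ≤ Subgroup.center E)
    (hy : ∀ (r : ℕ) (t : K), r < D.nroots → π (y r t) = D.scGen K r t)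
    (hadd : ∀ r < D.nroots, ∀ t u : K, y r t * y r u = y r (t + u)) :
    Setup D π (D.scGen K) (thetaGL hD K) y := by
  obtain ⟨m0, T⟩ := St.TabAll.exists_tab hD
  exact {
    wf := T.toWf
    coroot := fun r hr => T.coroot_ne hr
    central := hc
    rel := fun r s hr hs hsr hsn t u => by
      rw [wordF_scGen]; exact scGen_conj hr hs hsr hsn t u
    theta := fun r t _ => by rw [thetaGL_scGen, coe_xG]
    lift := hy
    add := hadd }

/-- All commutator relations, from the torus elements. -/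
theorem rel2_all (hD : InList D) (L : Setup D π (D.scGen K) (thetaGL hD K) y)
    (hgood : ∀ r s, r < D.nroots → s < D.nroots → s ≠ r → s ≠ D.neg r → TorGood D y r s ∨ PGood K π) :
    ∀ r s, r < D.nroots → s < D.nroots → s ≠ r → s ≠ D.neg r → Rel2 D y r s := by
  intro r₀ s₀ hr₀ hs₀ h₁ h₂
  obtain ⟨m0, T⟩ := St.TabAll.exists_tab hD
  obtain ⟨m, hmr, hms⟩ := PairFacts.exists_pos hD hr₀ hs₀ h₁ h₂
  set f := lin D m with hfdef
  have hf : Fun D f := T.fun_lin m
  obtain ⟨B, hB⟩ := Finset.exists_le ((Finset.range D.nroots).image f)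
  have hB' : ∀ q < D.nroots, f q ≤ B := fun q hq => hB _ (Finset.mem_image_of_mem _ (Finset.mem_range.2 hq))
  have main : ∀ k : ℕ, ∀ n : ℤ, 2 * B + 1 ≤ n + k → ∀ r s, r < D.nroots → s < D.nroots → s ≠ r →
      0 < f r → 0 < f s → n ≤ f r + f s → Rel2 D y r s := by
    intro k
    induction k with
    | zero =>
      intro n hn r s hr hs _ _ _ h
      have := hB' r hr
      have := hB' s hs
      simp only [Nat.cast_zero] at hn
      omega
    | succ k ih =>
      intro n hn r s hr hs hsr hfr hfs h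
      by_cases hlt : n + 1 ≤ f r + f s
      · exact ih (n + 1) (by push_cast at hn; omega) r s hr hs hsr hfr hfs hlt
      have heq : f r + f s = n := by omega
      have hrel : ∀ a b, a < D.nroots → b < D.nroots → b ≠ a → 0 < f a → 0 < f b → n < f a + f b → Rel2 D y a b :=
        fun a b ha hb hba hfa hfb hab => ih (n + 1) (by push_cast at hn; omega) a b ha hb hba hfa hfb (by omega)
      have hsn : s ≠ D.neg r := by
        intro e
        rw [e, hf.neg r hr] at hfs
        omega
      -- the closed set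
      have hterm : ∀ a b, a < D.nroots → b < D.nroots → 0 < f a → 0 < f b → n ≤ f a + f b →
          ∀ c ∈ D.commTerms a b, n ≤ f c.1 := by
        intro a b ha hb hfa hfb hab c hcm
        obtain ⟨h1, h2, h3, h4⟩ := commTerms_spec L.wf ha hb hcm
        rw [h4 f hf]
        have e1 : 1 * f a ≤ (c.2.2.1 : ℤ) * f a := mul_le_mul_of_nonneg_right (by exact_mod_cast h2) hfa.le
        have e2 : 1 * f b ≤ (c.2.2.2 : ℤ) * f b := mul_le_mul_of_nonneg_right (by exact_mod_cast h3) hfb.le
        omega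
      refine L.rel2_step hf (S := fun q => n ≤ f q) ?_ ?_ ?_ hr hs hsr hsn ?_ ?_ ?_ (hgood r s hr hs hsr hsn)
      · intro q _ hq
        have : n ≤ f q := hq
        omega
      · intro a b ha hb hSa hSb hba c hcm
        have h1 : n ≤ f a := hSa
        have h2 : n ≤ f b := hSb
        exact hterm a b ha hb (by omega) (by omega) (by omega) c hcm
      · intro a b ha hb hba hSa hSb
        have h1 : n ≤ f a := hSa
        have h2 : n ≤ f b := hSb
        exact hrel a b ha hb hba (by omega) (by omega) (by omega)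
      · intro c hcm
        exact hterm r s hr hs hfr hfs h c hcm
      · intro q hq hSq c hcm
        have h1 : n ≤ f q := hSq
        exact hterm s q hs hq hfs (by omega) (by omega) c hcm
      · intro q hq hSq
        have h1 : n ≤ f q := hSq
        refine hrel s q hs hq ?_ hfs (by omega) (by omega)
        rintro rfl
        omega
  exact main (2 * B + 1 - (f r₀ + f s₀)).toNat (f r₀ + f s₀) (by omega) r₀ s₀ hr₀ hs₀ h₁ hmr hms le_rfl

/-- A family satisfying (R1), (R2) gives a homomorphism. -/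
theorem exists_hom (hw : Wf D) (hadd : ∀ r < D.nroots, ∀ t u : K, y r t * y r u = y r (t + u))
    (hrel : ∀ r s, r < D.nroots → s < D.nroots → s ≠ r → s ≠ D.neg r → Rel2 D y r s) :
    ∃ τ : D.SteinbergCover K →* E, ∀ r t, r < D.nroots → τ (D.scGen K r t) = y r t := by
  let gen : Fin D.nroots × K → E := fun p => y p.1 p.2
  have hX : ∀ r t, r < D.nroots → FreeGroup.lift gen (D.stX r t) = y r t := by
    intro r t hr
    rw [stX_of_lt hr, FreeGroup.lift_apply_of]
  have hW : ∀ w : List (ℕ × K), (∀ p ∈ w, p.1 < D.nroots) → FreeGroup.lift gen (D.stWord w) = wordF y w := by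
    intro w hw
    show FreeGroup.lift gen ((w.map fun p => D.stX p.1 p.2).prod) = (w.map fun p => y p.1 p.2).prod
    rw [map_list_prod, List.map_map]
    congr 1
    exact List.map_congr_left fun p hp => hX p.1 p.2 (hw p hp)
  have hrels : ∀ g ∈ D.steinbergRelsAB K, FreeGroup.lift gen g = 1 := by
    rintro g (⟨r, t₁, t₂, hr, rfl⟩ | ⟨r, s, t, u, hr, hs, hsr, hsn, rfl⟩)
    · rw [map_mul, map_mul, map_inv, hX r _ hr, hX r _ hr, hX r _ hr, hadd r hr, mul_inv_cancel]
    · rw [map_mul, map_mul, map_mul, map_mul, map_inv, map_inv, map_inv, hX s _ hs, hX r _ hr, hW]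
      · have h := hrel r s hr hs hsr hsn t u
        have h2 : (y s u)⁻¹ * (y r t)⁻¹ * y s u * y r t = wordF y (D.commWord K r s t u) := by
          calc (y s u)⁻¹ * (y r t)⁻¹ * y s u * y r t = (y s u)⁻¹ * ((y r t)⁻¹ * y s u * y r t) := by group
            _ = wordF y (D.commWord K r s t u) := by rw [h]; group
        rw [h2, mul_inv_cancel]
      · intro p hp
        obtain ⟨c, hcm, rfl⟩ := List.mem_map.1 hp
        exact (commTerms_spec hw hr hs hcm).1
  refine ⟨PresentedGroup.toGroup hrels, fun r t hr => ?_⟩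
  rw [scGen_of_lt hr, PresentedGroup.toGroup.of]

/-- A good family of lifts gives a splitting. -/
theorem exists_section (hD : InList D)
    (hy : ∀ (r : ℕ) (t : K), r < D.nroots → π (y r t) = D.scGen K r t)
    (hadd : ∀ r < D.nroots, ∀ t u : K, y r t * y r u = y r (t + u))
    (hrel : ∀ r s, r < D.nroots → s < D.nroots → s ≠ r → s ≠ D.neg r → Rel2 D y r s) :
    ∃ τ : D.SteinbergCover K →* E, π.comp τ = MonoidHom.id _ := by
  obtain ⟨m0, T⟩ := St.TabAll.exists_tab hD
  obtain ⟨τ, hτ⟩ := exists_hom T.toWf hadd hrel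
  refine ⟨τ, ?_⟩
  apply PresentedGroup.ext
  rintro ⟨⟨r, hr⟩, t⟩
  show π (τ (PresentedGroup.of (⟨r, hr⟩, t))) = PresentedGroup.of (⟨r, hr⟩, t)
  rw [← scGen_of_lt hr, hτ r t hr, hy r t hr]

/-- Enough torus elements give a splitting. -/
theorem exists_section_of_act (hD : InList D) (hsurj : Function.Surjective π) (hc : π.ker ≤ Subgroup.center E)
    (hperf : commutator (D.SteinbergCover K) = ⊤)
    (h1 : ∀ s < D.nroots, ∃ (h : D.SteinbergCover K) (a : ℕ → K), Act h a ∧ a s ≠ 1)
    (hab : ∀ s < D.nroots, Ab D π s)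
    (h2 : ∀ r s, r < D.nroots → s < D.nroots → s ≠ r → s ≠ D.neg r →
      ∃ (h : D.SteinbergCover K) (a : ℕ → K), Act h a ∧ a r = 1 ∧ a s ≠ 1) :
    ∃ τ : D.SteinbergCover K →* E, π.comp τ = MonoidHom.id _ := by
  classical
  let H : ℕ → D.SteinbergCover K := fun s => if h : s < D.nroots then (h1 s h).choose else 1
  let A : ℕ → ℕ → K := fun s => if h : s < D.nroots then (h1 s h).choose_spec.choose else 1
  have hA : ∀ s < D.nroots, Act (H s) (A s) ∧ A s s ≠ 1 := by
    intro s hs
    have := (h1 s hs).choose_spec.choose_spec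
    simp only [H, A, dif_pos hs]
    exact this
  have hy : ∀ (r : ℕ) (t : K), r < D.nroots → π (yy hsurj H A r t) = D.scGen K r t :=
    fun r t hr => map_yy hsurj H A hA hr t
  have hadd : ∀ r < D.nroots, ∀ t u : K, yy hsurj H A r t * yy hsurj H A r u = yy hsurj H A r (t + u) :=
    fun r hr t u => yy_add hsurj hc H A hA hr (hab r hr) t u
  refine exists_section hD hy hadd (rel2_all hD (setup hD hc hy hadd) ?_)
  intro r s hr hs hsr hsn
  left
  obtain ⟨h, a, H', har, has⟩ := h2 r s hr hs hsr hsn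
  obtain ⟨g, rfl⟩ := hsurj h
  exact ⟨g, a, fun q hq u => conj_yy hsurj hc hperf H A hA hq u H', har, has⟩

/-- Universality from the splitting of central extensions. -/
theorem lift_unique {Δ : Type u} [Group Δ] (hperf : commutator Δ = ⊤)
    {G₁ : Type w} [Group G₁] (π₁ : E →* G₁) (hπ : Function.Surjective π₁) (hc : π₁.ker ≤ Subgroup.center E)
    (σ : Δ →* G₁)
    (hsplit : ∀ (P : Type (max u v)) [Group P] (π : P →* Δ), Function.Surjective π → π.ker ≤ Subgroup.center P →
      (∃ f : π.ker →* π₁.ker, Function.Injective f) →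
      ∃ τ : Δ →* P, π.comp τ = MonoidHom.id _) :
    ∃! τ : Δ →* E, π₁.comp τ = σ := by
  -- the pull-back
  let P : Subgroup (E × Δ) := MonoidHom.eqLocus (π₁.comp (MonoidHom.fst E Δ)) (σ.comp (MonoidHom.snd E Δ))
  have hP : ∀ p : P, π₁ (p : E × Δ).1 = σ (p : E × Δ).2 := fun p => p.2
  let π : P →* Δ := (MonoidHom.snd E Δ).comp P.subtype
  have hsurj : Function.Surjective π := by
    intro δ
    obtain ⟨e, he⟩ := hπ (σ δ)
    exact ⟨⟨(e, δ), he⟩, rfl⟩
  have hker : ∀ p : P, p ∈ π.ker → (p : E × Δ).1 ∈ π₁.ker := by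
    intro p hp
    have h2 : (p : E × Δ).2 = 1 := hp
    rw [MonoidHom.mem_ker, hP, h2, map_one]
  have hcen : π.ker ≤ Subgroup.center P := by
    intro p hp
    rw [Subgroup.mem_center_iff]
    intro q
    apply Subtype.ext
    apply Prod.ext
    · exact Subgroup.mem_center_iff.1 (hc (hker p hp)) _
    · have h2 : (p : E × Δ).2 = 1 := hp
      show (q : E × Δ).2 * (p : E × Δ).2 = (p : E × Δ).2 * (q : E × Δ).2
      rw [h2, mul_one, one_mul]
  have hf : ∃ f : π.ker →* π₁.ker, Function.Injective f := by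
    refine ⟨{ toFun := fun p => ⟨((p : P) : E × Δ).1, hker p p.2⟩
              map_one' := rfl
              map_mul' := fun _ _ => rfl }, ?_⟩
    intro p q hpq
    apply Subtype.ext
    apply Subtype.ext
    apply Prod.ext
    · exact congrArg Subtype.val hpq
    · have h2 : ((p : P) : E × Δ).2 = 1 := p.2
      have h3 : ((q : P) : E × Δ).2 = 1 := q.2
      rw [h2, h3]
  obtain ⟨s, hs⟩ := hsplit P π hsurj hcen hf
  refine ⟨(MonoidHom.fst E Δ).comp (P.subtype.comp s), ?_, ?_⟩
  · ext δ
    show π₁ ((s δ : P) : E × Δ).1 = σ δ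
    rw [hP]
    congr 1
    exact DFunLike.congr_fun hs δ
  · intro τ' hτ'
    set τ := (MonoidHom.fst E Δ).comp (P.subtype.comp s) with hτdef
    have hτ : π₁.comp τ = σ := by
      ext δ
      show π₁ ((s δ : P) : E × Δ).1 = σ δ
      rw [hP]
      congr 1
      exact DFunLike.congr_fun hs δ
    have hk : ∀ δ, τ' δ * (τ δ)⁻¹ ∈ π₁.ker := by
      intro δ
      rw [MonoidHom.mem_ker, map_mul, map_inv, ← MonoidHom.comp_apply, ← MonoidHom.comp_apply, hτ, hτ',
        mul_inv_cancel]
    let φ : Δ →* π₁.ker :=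
      { toFun := fun δ => ⟨τ' δ * (τ δ)⁻¹, hk δ⟩
        map_one' := Subtype.ext (by
          show τ' 1 * (τ 1)⁻¹ = 1
          rw [map_one, map_one, inv_one, mul_one])
        map_mul' := fun δ ε => Subtype.ext (by
          show τ' (δ * ε) * (τ (δ * ε))⁻¹ = τ' δ * (τ δ)⁻¹ * (τ' ε * (τ ε)⁻¹)
          rw [map_mul, map_mul, mul_inv_rev]
          have e : τ' δ * τ' ε * ((τ ε)⁻¹ * (τ δ)⁻¹) = τ' δ * ((τ' ε * (τ ε)⁻¹) * (τ δ)⁻¹) := by group
          rw [e, ker_comm hc (hk ε) (τ δ)⁻¹]
          group) }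
    have hφ : commutator Δ ≤ φ.ker := by
      rw [commutator_def, Subgroup.commutator_le]
      intro g _ h _
      rw [MonoidHom.mem_ker, map_commutatorElement, commutatorElement_eq_one_iff_mul_comm]
      exact Subtype.ext (ker_comm hc (φ g).2 (φ h : E))
    ext δ
    have h1 : δ ∈ φ.ker := hφ (by rw [hperf]; exact Subgroup.mem_top _)
    have h2 : τ' δ * (τ δ)⁻¹ = 1 := congrArg Subtype.val (MonoidHom.mem_ker.1 h1)
    exact mul_inv_eq_one.1 h2

end Cfsg.Agent.H134.LiftMain
end
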